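import Cfsg.Agent.Lib.Linear.OrthBasic
import Cfsg.Agent.Lib.Linear.SingularVectors

/-!
# Orthogonal groups over an extension field inside those over the ground field

`h` is a symmetric `K`-form and `B` its trace.  The root elements of `h`, the transitivity they
give on singular vectors, and the detection of a moved singular line.
-/

set_option autoImplicit false

namespace Cfsg.Lib.Linear.OrthExt

open Module
open scoped Matrix
open Cfsg.Lib.Linear.Orth

variable {ι : Type} [Fintype ι] [DecidableEq ι] {F K : Type*} [Field F] [Field K] [Algebra F K]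
  [Module K (ι → F)] [IsScalarTower F K (ι → F)]
  {Q : (ι → F) → F} {B : LinearMap.BilinForm F (ι → F)} {h : LinearMap.BilinForm K (ι → F)}
  {G : Subgroup (GL ι F)}

local notation "𝕍" => (ι → F)

/-- The trace of a non-degenerate symmetric form over the extension, in dimension at least 4. -/
structure Ext (Q : 𝕍 → F) (B : LinearMap.BilinForm F 𝕍) (h : LinearMap.BilinForm K 𝕍) : Prop where
  space : Space Q B
  two : (2 : F) ≠ 0
  symm : ∀ x y, h x y = h y x
  tr : ∀ x y, B x y = Algebra.trace F K (h x y)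
  dim : 4 ≤ finrank K 𝕍

/-- The root map of `p` and `w`. -/
def rt (h : LinearMap.BilinForm K 𝕍) (p w x : 𝕍) : 𝕍 :=
  x + h x p • w - (h x w + 2⁻¹ * h w w * h x p) • p

/-- A group of isometries containing the root elements and moving a line. -/
structure Over (Q : 𝕍 → F) (h : LinearMap.BilinForm K 𝕍) (G : Subgroup (GL ι F)) : Prop where
  le : G ≤ isometryGroup F Q
  roots : ∀ p w : 𝕍, h p p = 0 → h p w = 0 → ∃ X ∈ G, ∀ x : 𝕍, X.val *ᵥ x = rt h p w x
  moved : ∃ g ∈ G, ∃ (v : 𝕍) (k : K), g.val *ᵥ (k • v) ∉ K ∙ g.val *ᵥ v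

/-- An invertible matrix as a linear equivalence. -/
def ac (g : GL ι F) : 𝕍 ≃ₗ[F] 𝕍 where
  toFun x := g.val *ᵥ x
  map_add' := Matrix.mulVec_add _
  map_smul' c x := Matrix.mulVec_smul _ c x
  invFun x := (g⁻¹ : GL ι F).val *ᵥ x
  left_inv x := inv_act g x
  right_inv x := act_inv g x

omit [IsScalarTower F K (ι → F)] [Module K (ι → F)] in
@[simp] theorem ac_apply (g : GL ι F) (x : 𝕍) : ac g x = g.val *ᵥ x := rfl

omit [IsScalarTower F K (ι → F)] [Module K (ι → F)] in
theorem ac_mul (g g' : GL ι F) (x : 𝕍) : ac (g * g') x = ac g (ac g' x) := mul_act g g' x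

omit [IsScalarTower F K (ι → F)] [Algebra F K] in
theorem rt_smul (p w : 𝕍) (k : K) (x : 𝕍) : rt h p w (k • x) = k • rt h p w x := by
  simp only [rt, map_smul, LinearMap.smul_apply, smul_eq_mul]
  module

theorem Ext.two' (D : Ext Q B h) : (2 : K) ≠ 0 := by
  rw [← map_ofNat (algebraMap F K) 2]
  exact fun e => D.two ((algebraMap F K).injective (by rw [e, map_zero]))

theorem Ext.smul_left (D : Ext Q B h) (k : K) (x y : 𝕍) :
    B (k • x) y = Algebra.trace F K (k * h x y) := by
  rw [D.tr, map_smul, LinearMap.smul_apply, smul_eq_mul]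

theorem Ext.smul_right (D : Ext Q B h) (k : K) (x y : 𝕍) :
    B x (k • y) = Algebra.trace F K (k * h x y) := by
  rw [D.tr, map_smul, smul_eq_mul]

theorem Ext.sep (D : Ext Q B h) {x : 𝕍} (hx : ∀ y, h x y = 0) : x = 0 :=
  D.space.nondeg' fun y => by rw [D.tr, hx, map_zero]

theorem Ext.Q_zero_iff (D : Ext Q B h) (x : 𝕍) : Q x = 0 ↔ B x x = 0 := by
  rw [D.space.self, mul_eq_zero, or_iff_right D.two]

theorem Ext.Q_smul (D : Ext Q B h) {p : 𝕍} (hp : h p p = 0) (k : K) : Q (k • p) = 0 := by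
  rw [D.Q_zero_iff, D.smul_left, map_smul, hp, smul_zero, mul_zero, map_zero]

section Finite

variable [Finite K] [FiniteDimensional F K] [FiniteDimensional K (ι → F)]

theorem ext_trace {a b : K} (e : ∀ k, Algebra.trace F K (k * a) = Algebra.trace F K (k * b)) :
    a = b := by
  haveI : Finite F := Finite.of_injective _ (algebraMap F K).injective
  refine sub_eq_zero.1 ((traceForm_nondegenerate F K).1 _ fun k => ?_)
  rw [Algebra.traceForm_apply, mul_comm, mul_sub, map_sub, e, sub_self]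

theorem exists_trace_mul_ne {a : K} (ha : a ≠ 0) : ∃ k, Algebra.trace F K (k * a) ≠ 0 := by
  by_contra hc
  push Not at hc
  exact ha (ext_trace (F := F) fun k => by rw [hc, mul_zero, map_zero])

theorem Ext.exists_dual (D : Ext Q B h) (μ : 𝕍 →ₗ[K] K) : ∃ v, ∀ x, h v x = μ x := by
  have hinj : Function.Injective (h : 𝕍 →ₗ[K] (𝕍 →ₗ[K] K)) := by
    rw [← LinearMap.ker_eq_bot, eq_bot_iff]
    exact fun x hx => (Submodule.mem_bot K).2
      (D.sep fun y => by rw [LinearMap.mem_ker.1 hx, LinearMap.zero_apply])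
  obtain ⟨v, hv⟩ := (LinearMap.injective_iff_surjective_of_finrank_eq_finrank
    (Subspace.dual_finrank_eq (K := K) (V := (ι → F))).symm).1 hinj μ
  exact ⟨v, fun x => by rw [hv]⟩

/-- The orthogonal space of two vectors. -/
def perp (h : LinearMap.BilinForm K 𝕍) (x y : 𝕍) : Submodule K 𝕍 :=
  LinearMap.ker (h x) ⊓ LinearMap.ker (h y)

theorem mem_perp {x y v : 𝕍} : v ∈ perp h x y ↔ h x v = 0 ∧ h y v = 0 := by
  simp [perp]

theorem Ext.finrank_ker (D : Ext Q B h) (x : 𝕍) :
    finrank K 𝕍 ≤ finrank K (LinearMap.ker (h x)) + 1 := by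
  have h1 := (h x).finrank_range_add_finrank_ker
  have h2 := Submodule.finrank_le (LinearMap.range (h x))
  rw [finrank_self] at h2
  omega

theorem Ext.finrank_perp (D : Ext Q B h) (x y : 𝕍) :
    finrank K 𝕍 ≤ finrank K (perp h x y) + 2 := by
  have h1 := D.finrank_ker x
  have h2 := D.finrank_ker y
  have h3 := Submodule.finrank_sup_add_finrank_inf_eq (LinearMap.ker (h x)) (LinearMap.ker (h y))
  have h4 := Submodule.finrank_le (LinearMap.ker (h x) ⊔ LinearMap.ker (h y))
  show finrank K 𝕍 ≤ finrank K ↥(LinearMap.ker (h x) ⊓ LinearMap.ker (h y)) + 2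
  omega

/-- The quadratic form of `h`. -/
theorem Ext.polar (D : Ext Q B h) (u v : 𝕍) :
    QuadraticMap.polar (fun x => 2⁻¹ * h x x) u v = h u v := by
  simp only [QuadraticMap.polar, map_add, LinearMap.add_apply, D.symm v u]
  linear_combination h u v * inv_mul_cancel₀ D.two'

theorem Ext.exists_singular (D : Ext Q B h) (U : Submodule K 𝕍) (hU : 3 ≤ finrank K U) :
    ∃ x ∈ U, x ≠ 0 ∧ h x x = 0 := by
  obtain ⟨x, hx, hx0, hxx⟩ := Sing.exists_singular (Q := fun x => 2⁻¹ * h x x) (B := h)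
    (fun c v => by simp [mul_comm, mul_assoc, mul_left_comm, sq]) D.polar U hU
  exact ⟨x, hx, hx0, (mul_eq_zero.1 hxx).resolve_left (inv_ne_zero D.two')⟩

/-- A singular partner of a singular vector inside a subspace. -/
theorem Ext.exists_partner (D : Ext Q B h) {U : Submodule K 𝕍} {e y : 𝕍} (heU : e ∈ U) (hy : y ∈ U)
    (he : h e e = 0) (hey : h e y ≠ 0) : ∃ f ∈ U, h f f = 0 ∧ h e f = 1 := by
  set z := (h e y)⁻¹ • y with hz
  have hez : h e z = 1 := by rw [hz, map_smul, smul_eq_mul, inv_mul_cancel₀ hey]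
  refine ⟨z - (2⁻¹ * h z z) • e, U.sub_mem (U.smul_mem _ hy) (U.smul_mem _ heU), ?_, ?_⟩
  · simp only [map_sub, map_smul, LinearMap.sub_apply, LinearMap.smul_apply, he, hez, D.symm z e,
      smul_eq_mul]
    field_simp [D.two']
    ring
  · rw [map_sub, map_smul (h e) _ e, he, smul_zero, sub_zero, hez]

/-- A non-degenerate subspace with a singular vector is spanned by singular vectors. -/
theorem Ext.sing_span (D : Ext Q B h) {U : Submodule K 𝕍} (hU : ∀ x ∈ U, (∀ y ∈ U, h x y = 0) → x = 0)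
    {e : 𝕍} (heU : e ∈ U) (he0 : e ≠ 0) (he : h e e = 0) {φ : 𝕍 →ₗ[K] K}
    (hφ : ∀ v ∈ U, h v v = 0 → φ v = 0) : ∀ x ∈ U, φ x = 0 := by
  obtain ⟨y, hy, hey⟩ : ∃ y ∈ U, h e y ≠ 0 := by
    by_contra hc
    push Not at hc
    exact he0 (hU e heU hc)
  obtain ⟨f, hf, hff, hef⟩ := D.exists_partner heU hy he hey
  intro x hx
  set w := x - h x f • e - h x e • f with hw
  have hfe : h f e = 1 := by rw [D.symm, hef]
  have hwe : h w e = 0 := by simp [hw, he, hfe]
  have hwf : h w f = 0 := by simp [hw, hff, hef]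
  have hwU : w ∈ U := U.sub_mem (U.sub_mem hx (U.smul_mem _ heU)) (U.smul_mem _ hf)
  have h1 : h (w + f - (2⁻¹ * h w w) • e) (w + f - (2⁻¹ * h w w) • e) = 0 := by
    simp only [map_add, map_sub, map_smul, LinearMap.add_apply, LinearMap.sub_apply,
      LinearMap.smul_apply, hwe, hwf, D.symm e w, D.symm f w, hff, he, hef, hfe, smul_eq_mul]
    field_simp [D.two']
    ring
  have h2 := hφ _ (U.sub_mem (U.add_mem hwU hf) (U.smul_mem _ heU)) h1
  rw [map_sub, map_add, map_smul, hφ e heU he, hφ f hf hff, smul_zero, add_zero, sub_zero] at h2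
  rw [hw, map_sub, map_sub, map_smul, map_smul, hφ e heU he, hφ f hf hff, smul_zero, sub_zero,
    smul_zero, sub_zero] at h2
  exact h2

/-- A hyperbolic pair through a singular vector and a non-singular vector orthogonal to it. -/
theorem Ext.exists_frame (D : Ext Q B h) {p : 𝕍} (hp0 : p ≠ 0) (hp : h p p = 0) :
    ∃ f n, h f f = 0 ∧ h p f = 1 ∧ h p n = 0 ∧ h f n = 0 ∧ h n n ≠ 0 := by
  obtain ⟨y, hy⟩ : ∃ y, h p y ≠ 0 := by
    by_contra hc
    push Not at hc
    exact hp0 (D.sep hc)
  obtain ⟨f, -, hff, hpf⟩ := D.exists_partner (U := ⊤) trivial (Submodule.mem_top (x := y)) hp hy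
  have hfp : h f p = 1 := by rw [D.symm, hpf]
  obtain ⟨n, hn, hnn⟩ : ∃ n ∈ perp h p f, h n n ≠ 0 := by
    by_contra hc
    push Not at hc
    have hne : perp h p f ≠ ⊥ := fun e => by
      have := D.finrank_perp p f
      rw [e, finrank_bot] at this
      have := D.dim
      omega
    obtain ⟨a, ha, ha0⟩ := Submodule.exists_mem_ne_zero_of_ne_bot hne
    refine ha0 (D.sep fun x => ?_)
    set w := x - h x f • p - h x p • f
    have hw : w ∈ perp h p f := mem_perp.2
      ⟨by simp [w, hp, hpf, D.symm p x], by simp [w, hff, hfp, D.symm f x]⟩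
    have h1 := hc _ (Submodule.add_mem _ ha hw)
    simp only [map_add, LinearMap.add_apply, hc a ha, hc w hw, D.symm w a] at h1
    have h2 : h a w = 0 := by
      have : (2 : K) * h a w = 0 := by linear_combination h1
      exact (mul_eq_zero.1 this).resolve_left D.two'
    have h3 : h a p = 0 := by rw [D.symm]; exact (mem_perp.1 ha).1
    have h4 : h a f = 0 := by rw [D.symm]; exact (mem_perp.1 ha).2
    simpa [w, h3, h4] using h2
  exact ⟨f, n, hff, hpf, (mem_perp.1 hn).1, (mem_perp.1 hn).2, hnn⟩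

/-- The root elements are transitive on non-zero singular vectors. -/
theorem exists_move (D : Ext Q B h) (hG : Over Q h G) {x z : 𝕍} (hx0 : x ≠ 0) (hx : h x x = 0)
    (hz0 : z ≠ 0) (hz : h z z = 0) :
    ∃ M ∈ G, M.val *ᵥ x = z ∧ ∀ (k : K) v, M.val *ᵥ (k • v) = k • M.val *ᵥ v := by
  have step : ∀ {x z : 𝕍}, h x x = 0 → h z z = 0 → h x z ≠ 0 →
      ∃ M ∈ G, M.val *ᵥ x = z ∧ ∀ (k : K) v, M.val *ᵥ (k • v) = k • M.val *ᵥ v := by
    intro x z hx hz hxz
    have hx0 : x ≠ 0 := fun e => hxz (by rw [e, map_zero, LinearMap.zero_apply])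
    obtain ⟨f, n₀, hff, hxf, hxn₀, hfn₀, hn₀⟩ := D.exists_frame hx0 hx
    -- an auxiliary singular vector
    set y := (h x z)⁻¹ • z with hy
    have hxy : h x y = 1 := by rw [hy, map_smul, smul_eq_mul, inv_mul_cancel₀ hxz]
    have hyy : h y y = 0 := by simp [hy, hz]
    have hyx : h y x = 1 := by rw [D.symm, hxy]
    set U := perp h x y
    have hUnd : ∀ a ∈ U, (∀ b ∈ U, h a b = 0) → a = 0 := fun a ha hab => D.sep fun b => by
      have hb : b - h b y • x - h b x • y ∈ U := mem_perp.2
        ⟨by simp [hx, hxy, D.symm x b], by simp [hyy, hyx, D.symm y b]⟩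
      have := hab _ hb
      simpa [D.symm a x, (mem_perp.1 ha).1, D.symm a y, (mem_perp.1 ha).2] using this
    -- every value is taken on `U`
    obtain ⟨n, hn, hnn⟩ : ∃ n ∈ U, 2⁻¹ * h n n = -h x z := by
      have hU2 : 2 ≤ finrank K U := by
        have h1 : finrank K 𝕍 ≤ finrank K U + 2 := D.finrank_perp x y
        have := D.dim
        omega
      have h3 : 3 ≤ finrank K (⊤ : Submodule K (U × K)) := by
        rw [finrank_top, Module.finrank_prod, finrank_self]
        omega
      obtain ⟨⟨u, t⟩, -, hne, hQ⟩ := Sing.exists_singular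
        (Q := fun a : U × K => 2⁻¹ * h a.1 a.1 + h x z * a.2 ^ 2)
        (B := (h.compl₁₂ (U.subtype ∘ₗ LinearMap.fst K U K) (U.subtype ∘ₗ LinearMap.fst K U K)) +
          (2 * h x z) • (LinearMap.mul K K).compl₁₂ (LinearMap.snd K U K) (LinearMap.snd K U K))
        (fun c v => by simp; ring)
        (fun a b => by
          simp only [QuadraticMap.polar, Prod.fst_add, Prod.snd_add, Submodule.coe_add, map_add,
            LinearMap.add_apply, LinearMap.compl₁₂_apply, LinearMap.comp_apply, LinearMap.fst_apply,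
            Submodule.subtype_apply, LinearMap.smul_apply, LinearMap.mul_apply', LinearMap.snd_apply,
            smul_eq_mul, D.symm (b.1 : 𝕍) a.1]
          linear_combination (h (a.1 : 𝕍) b.1) * inv_mul_cancel₀ D.two') ⊤ h3
      simp only at hQ
      by_cases ht : t = 0
      · -- a hyperbolic plane takes every value
        subst ht
        have hu0 : (u : 𝕍) ≠ 0 := fun e => hne (Prod.ext (Subtype.ext e) rfl)
        have huu : h (u : 𝕍) u = 0 := by
          simpa [inv_ne_zero D.two'] using hQ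
        obtain ⟨b, hb, hub⟩ : ∃ b ∈ U, h (u : 𝕍) b ≠ 0 := by
          by_contra hc
          push Not at hc
          exact hu0 (hUnd _ u.2 hc)
        obtain ⟨v, hv, hvv, huv⟩ := D.exists_partner u.2 hb huu hub
        refine ⟨(-h x z) • (u : 𝕍) + v, U.add_mem (U.smul_mem _ u.2) hv, ?_⟩
        simp only [map_add, map_smul, LinearMap.add_apply, LinearMap.smul_apply, huu, hvv, huv,
          D.symm v u, smul_eq_mul]
        field_simp [D.two']
        ring
      · refine ⟨t⁻¹ • (u : 𝕍), U.smul_mem _ u.2, ?_⟩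
        simp only [map_smul, LinearMap.smul_apply, smul_eq_mul]
        linear_combination t⁻¹ ^ 2 * hQ - h x z * (t⁻¹ * t + 1) * inv_mul_cancel₀ ht
    obtain ⟨hxn, hyn⟩ := mem_perp.1 hn
    have hn0 : 2⁻¹ * h n n ≠ 0 := by rw [hnn]; exact neg_ne_zero.2 hxz
    set c := 2⁻¹ * h n n
    obtain ⟨X₁, hX₁, hX₁a⟩ := hG.roots y n hyy hyn
    have hw : h x (c⁻¹ • n) = 0 := by rw [map_smul, hxn, smul_zero]
    obtain ⟨X₂, hX₂, hX₂a⟩ := hG.roots x (c⁻¹ • n) hx hw
    refine ⟨X₂ * X₁, G.mul_mem hX₂ hX₁, ?_, fun k v => by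
      rw [mul_act, mul_act, hX₁a, rt_smul, ← hX₁a, hX₂a, rt_smul, ← hX₂a]⟩
    rw [mul_act, hX₁a, rt, hxy, hxn, one_smul, mul_one, zero_add, hX₂a, rt]
    have e1 : h (x + n - c • y) x = -c := by simp [hx, D.symm n x, hxn, hyx]
    have e2 : h (x + n - c • y) (c⁻¹ • n) = 2 := by
      simp only [map_sub, map_add, map_smul, LinearMap.sub_apply, LinearMap.add_apply,
        LinearMap.smul_apply, hxn, hyn, smul_eq_mul, c]
      have hnn0 : h n n ≠ 0 := fun e => hn0 (by simp only [c, e, mul_zero])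
      field_simp [D.two', hnn0]
      ring
    have e3 : (2⁻¹ : K) * h (c⁻¹ • n) (c⁻¹ • n) = c⁻¹ := by
      simp only [map_smul, LinearMap.smul_apply, smul_eq_mul, c]
      field_simp [D.two']
    have ez : z = (-c) • y := by rw [hy, smul_smul, hnn, neg_neg, mul_inv_cancel₀ hxz, one_smul]
    rw [e1, e2, e3]
    conv_rhs => rw [ez]
    rw [show c⁻¹ * -c = -1 by field_simp, neg_smul c (c⁻¹ • n), smul_inv_smul₀ hn0]
    module
  by_cases hxz : h x z = 0
  · -- a singular vector not orthogonal to either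
    obtain ⟨w, hw, hxw, hzw⟩ : ∃ w, h w w = 0 ∧ h x w ≠ 0 ∧ h z w ≠ 0 := by
      by_contra hc
      push Not at hc
      have hnd : ∀ a ∈ (⊤ : Submodule K 𝕍), (∀ b ∈ (⊤ : Submodule K 𝕍), h a b = 0) → a = 0 :=
        fun a _ ha => D.sep fun b => ha b trivial
      obtain ⟨a, ha, hxa⟩ : ∃ a, h a a = 0 ∧ h x a ≠ 0 := by
        by_contra hc'
        push Not at hc'
        exact hx0 (D.sep fun b =>
          D.sing_span hnd (e := x) trivial hx0 hx (φ := h x) (fun v _ => hc' v) b trivial)
      obtain ⟨b, hb, hzb⟩ : ∃ b, h b b = 0 ∧ h z b ≠ 0 := by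
        by_contra hc'
        push Not at hc'
        exact hz0 (D.sep fun b =>
          D.sing_span hnd (e := x) trivial hx0 hx (φ := h z) (fun v _ => hc' v) b trivial)
      have hza : h z a = 0 := hc a ha hxa
      have hxb : h x b = 0 := by
        by_contra e
        exact hzb (hc b hb e)
      by_cases hab : h a b = 0
      · refine hzb ?_
        have := hc (a + b) (by simp [ha, hb, hab, D.symm b a]) (by rwa [map_add, hxb, add_zero])
        rwa [map_add, hza, zero_add] at this
      · -- correct `a + b` by a multiple of `x`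
        refine hzb ?_
        set μ := -h a b / h x a with hμ
        have h1 : h (μ • x + a + b) (μ • x + a + b) = 0 := by
          simp only [map_add, map_smul, LinearMap.add_apply, LinearMap.smul_apply, hx, ha, hb, hxb,
            D.symm a x, D.symm b x, D.symm b a, smul_eq_mul, hμ]
          field_simp
          ring
        have h2 := hc _ h1 (by simp [hx, hxb, hxa])
        simpa [D.symm z x, hxz, hza] using h2
    obtain ⟨M₁, hM₁, e1, l1⟩ := step hx hw hxw
    obtain ⟨M₂, hM₂, e2, l2⟩ := step hw hz (by rwa [D.symm])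
    exact ⟨M₂ * M₁, G.mul_mem hM₂ hM₁, by rw [mul_act, e1, e2],
      fun k v => by rw [mul_act, mul_act, l1, l2]⟩
  · exact step hx hz hxz

/-- Some singular line is moved. -/
theorem exists_moved (D : Ext Q B h) (hG : Over Q h G) (hr : 2 ≤ finrank F K) :
    ∃ g ∈ G, ∃ u : 𝕍, u ≠ 0 ∧ h u u = 0 ∧ ∃ k : K, g.val *ᵥ (k • u) ∉ K ∙ g.val *ᵥ u := by
  obtain ⟨g, hg, v, k, hvk⟩ := hG.moved
  refine ⟨g, hg, ?_⟩
  by_contra hc
  push Not at hc
  rcases eq_or_ne v 0 with rfl | hv0
  · exact hvk (by simp)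
  rcases eq_or_ne (h v v) 0 with hvv | hvv
  · exact hvk (hc v hv0 hvv k)
  -- a hyperbolic plane through `v`
  obtain ⟨u₀, -, hu₀0, hu₀⟩ := D.exists_singular (⊤ : Submodule K 𝕍)
    (by rw [finrank_top]; have := D.dim; omega)
  obtain ⟨u, hu, huv⟩ : ∃ u, h u u = 0 ∧ h v u ≠ 0 := by
    by_contra hc'
    push Not at hc'
    exact hv0 (D.sep fun b => D.sing_span (U := ⊤) (fun a _ ha => D.sep fun b => ha b trivial)
      (e := u₀) trivial hu₀0 hu₀ (φ := h v) (fun w _ => hc' w) b trivial)
  obtain ⟨f, hfU, hff, huf⟩ := D.exists_partner (U := Submodule.span K {u, v})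
    (Submodule.subset_span (by simp)) (Submodule.subset_span (Set.mem_insert_of_mem _ rfl)) hu
    (by rwa [D.symm])
  have hfu : h f u = 1 := by rw [D.symm, huf]
  have hvS : v ∈ Submodule.span K {u, f} := by
    obtain ⟨s, t, hst⟩ := Submodule.mem_span_pair.1 hfU
    have ht : t ≠ 0 := fun e => by
      rw [← hst, e, zero_smul, add_zero, map_smul, hu, smul_zero] at huf
      exact zero_ne_one huf
    refine Submodule.mem_span_pair.2 ⟨-(t⁻¹ * s), t⁻¹, ?_⟩
    rw [← hst, smul_add, smul_smul, smul_smul, inv_mul_cancel₀ ht, one_smul, neg_smul]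
    abel
  obtain ⟨β, α, hab⟩ := Submodule.mem_span_pair.1 hvS
  obtain ⟨n, hn, hnn⟩ : ∃ n ∈ perp h u f, h n n ≠ 0 := by
    have hu0 : u ≠ 0 := fun e => by rw [e, map_zero, LinearMap.zero_apply] at huf; exact zero_ne_one huf
    obtain ⟨f₁, n, hf₁, huf₁, hun, hf₁n, hnn⟩ := D.exists_frame hu0 hu
    refine ⟨n - h f n • u, mem_perp.2 ⟨by simp [hu, hun], by simp [hfu]⟩, ?_⟩
    simpa [hu, hun, D.symm n u] using hnn
  obtain ⟨hun, hfn⟩ := mem_perp.1 hn
  -- a second plane
  obtain ⟨lam, hlam0, hlam⟩ : ∃ lam : K, lam ≠ 0 ∧ α - β * (2⁻¹ * h n n * lam ^ 2) ≠ 0 := by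
    by_cases h1 : α - β * (2⁻¹ * h n n * 1 ^ 2) ≠ 0
    · exact ⟨1, one_ne_zero, h1⟩
    push Not at h1
    obtain ⟨lam, hlam0, hlam1, hlam2⟩ : ∃ lam : K, lam ≠ 0 ∧ lam ≠ 1 ∧ lam ≠ -1 := by
      classical
      have := Fintype.ofFinite K
      have : Finite F := Finite.of_injective _ (algebraMap F K).injective
      by_contra hc'
      push Not at hc'
      have hsub : (Finset.univ : Finset K) ⊆ {0, 1, -1} := fun x _ => by
        by_cases x0 : x = 0
        · simp [x0]
        by_cases x1 : x = 1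
        · simp [x1]
        simp [hc' x x0 x1]
      have hcard := (Finset.card_le_card hsub).trans Finset.card_le_three
      rw [Finset.card_univ, ← Nat.card_eq_fintype_card,
        Module.natCard_eq_pow_finrank (K := F) (V := K)] at hcard
      have hq : 2 ≤ Nat.card F := Finite.one_lt_card
      have := (Nat.pow_le_pow_left hq (finrank F K)).trans hcard
      have := (Nat.pow_le_pow_right (show 1 ≤ 2 by norm_num) hr).trans this
      omega
    refine ⟨lam, hlam0, fun h2 => ?_⟩
    have h3 : β * (2⁻¹ * h n n) * (lam ^ 2 - 1) = 0 := by linear_combination h1 - h2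
    have hβ : β ≠ 0 := fun e => by
      have hα : α = 0 := by rw [e] at h1; linear_combination h1
      exact hv0 (by rw [← hab, e, hα, zero_smul, zero_smul, add_zero])
    rcases mul_eq_zero.1 h3 with h4 | h4
    · exact mul_ne_zero hβ (mul_ne_zero (inv_ne_zero D.two') hnn) h4
    · rcases mul_eq_zero.1 (show (lam - 1) * (lam + 1) = 0 by linear_combination h4) with h5 | h5
      · exact hlam1 (sub_eq_zero.1 h5)
      · exact hlam2 (eq_neg_of_add_eq_zero_left h5)
  set u' := u + lam • n - (2⁻¹ * h n n * lam ^ 2) • f with hu'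
  have hu'u' : h u' u' = 0 := by
    simp only [hu', map_add, map_sub, map_smul, LinearMap.add_apply, LinearMap.sub_apply,
      LinearMap.smul_apply, hu, hff, huf, hfu, hun, hfn, D.symm n u, D.symm n f, smul_eq_mul]
    field_simp [D.two']
    ring
  have hu'v : h v u' ≠ 0 := by
    refine fun e => hlam ?_
    rw [← hab] at e
    simp only [hu', map_add, map_sub, map_smul, LinearMap.add_apply, LinearMap.smul_apply, hu, hff,
      huf, hfu, hun, hfn, smul_eq_mul] at e
    linear_combination e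
  have hu'S : u' ∉ Submodule.span K {u, f} := fun hm => by
    obtain ⟨s, t, hst⟩ := Submodule.mem_span_pair.1 hm
    have h1 : h n u' = lam * h n n := by simp [hu', D.symm n u, D.symm n f, hun, hfn]
    rw [← hst, map_add, map_smul, map_smul, D.symm n u, hun, D.symm n f, hfn] at h1
    simp [hlam0, hnn] at h1
  obtain ⟨f', hfU', hf'f', hu'f'⟩ := D.exists_partner (U := Submodule.span K {u', v})
    (Submodule.subset_span (by simp)) (Submodule.subset_span (Set.mem_insert_of_mem _ rfl)) hu'u'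
    (by rwa [D.symm])
  have hvS' : v ∈ Submodule.span K {u', f'} := by
    obtain ⟨s, t, hst⟩ := Submodule.mem_span_pair.1 hfU'
    have ht : t ≠ 0 := fun e => by
      rw [← hst, e, zero_smul, add_zero, map_smul, hu'u', smul_zero] at hu'f'
      exact zero_ne_one hu'f'
    refine Submodule.mem_span_pair.2 ⟨-(t⁻¹ * s), t⁻¹, ?_⟩
    rw [← hst, smul_add, smul_smul, smul_smul, inv_mul_cancel₀ ht, one_smul, neg_smul]
    abel
  -- images of planes are planes
  have hpl : ∀ a b : 𝕍, h a a = 0 → h b b = 0 → h a b = 1 →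
      ∀ x ∈ Submodule.span K {a, b}, g.val *ᵥ x ∈ Submodule.span K {g.val *ᵥ a, g.val *ᵥ b} := by
    intro a b ha hb hab x hx
    obtain ⟨s, t, rfl⟩ := Submodule.mem_span_pair.1 hx
    have ha0 : a ≠ 0 := fun e => by rw [e, map_zero, LinearMap.zero_apply] at hab; exact zero_ne_one hab
    have hb0 : b ≠ 0 := fun e => by rw [e, map_zero] at hab; exact zero_ne_one hab
    rw [Matrix.mulVec_add]
    exact Submodule.add_mem _
      (Submodule.span_mono (by simp) (hc a ha0 ha s))
      (Submodule.span_mono (by simp) (hc b hb0 hb t))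
  set T := Submodule.span K {g.val *ᵥ u, g.val *ᵥ f} with hT
  set T' := Submodule.span K {g.val *ᵥ u', g.val *ᵥ f'} with hT'
  have hgv : g.val *ᵥ v ∈ T ∧ g.val *ᵥ v ∈ T' :=
    ⟨hpl u f hu hff huf v hvS, hpl u' f' hu'u' hf'f' hu'f' v hvS'⟩
  have hgk : g.val *ᵥ (k • v) ∈ T ∧ g.val *ᵥ (k • v) ∈ T' :=
    ⟨hpl u f hu hff huf _ (Submodule.smul_mem _ k hvS),
      hpl u' f' hu'u' hf'f' hu'f' _ (Submodule.smul_mem _ k hvS')⟩
  set W := Submodule.span K {g.val *ᵥ v, g.val *ᵥ (k • v)} with hW
  have h2 : 2 ≤ finrank K W := by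
    by_contra hlt
    have hle : K ∙ g.val *ᵥ v ≤ W := Submodule.span_mono (by simp)
    have hv' : g.val *ᵥ v ≠ 0 := act_ne_zero hv0
    have := Submodule.eq_of_le_of_finrank_le hle (by rw [finrank_span_singleton hv']; omega)
    exact hvk (this ▸ Submodule.subset_span (by simp))
  have hT2 : ∀ a b : 𝕍, finrank K (Submodule.span K {a, b}) ≤ 2 := fun a b => by
    classical
    have := finrank_span_finset_le_card (R := K) ({a, b} : Finset 𝕍)
    rw [Finset.coe_pair] at this
    exact this.trans Finset.card_le_two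
  have hWT : W = T := Submodule.eq_of_le_of_finrank_le (Submodule.span_le.2 (by
    rintro x (rfl | rfl)
    exacts [hgv.1, hgk.1])) ((hT2 _ _).trans h2)
  have hWT' : W = T' := Submodule.eq_of_le_of_finrank_le (Submodule.span_le.2 (by
    rintro x (rfl | rfl)
    exacts [hgv.2, hgk.2])) ((hT2 _ _).trans h2)
  have hgu' : g.val *ᵥ u' ∈ T := by rw [← hWT, hWT']; exact Submodule.subset_span (by simp)
  set S := Submodule.span K {u, f}
  have hS2 : 2 ≤ finrank K S := by
    by_contra hlt
    have hu0 : u ≠ 0 := fun e => by rw [e, map_zero, LinearMap.zero_apply] at huf; exact zero_ne_one huf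
    have hle : K ∙ u ≤ S := Submodule.span_mono (by simp)
    have := Submodule.eq_of_le_of_finrank_le hle (by rw [finrank_span_singleton hu0]; omega)
    have hf : f ∈ K ∙ u := this ▸ Submodule.subset_span (by simp)
    obtain ⟨s, rfl⟩ := Submodule.mem_span_singleton.1 hf
    rw [map_smul, hu, smul_zero] at huf
    exact zero_ne_one huf
  have hle : (S.restrictScalars F).map (ac g : 𝕍 →ₗ[F] 𝕍) ≤ T.restrictScalars F := by
    rintro _ ⟨x, hx, rfl⟩
    exact hpl u f hu hff huf x hx
  have hfr : ∀ U : Submodule K 𝕍, finrank F (U.restrictScalars F) = finrank F K * finrank K U :=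
    fun U => (Module.finrank_mul_finrank F K U).symm
  have heq := Submodule.eq_of_le_of_finrank_le hle (by
    rw [LinearEquiv.finrank_map_eq, hfr, hfr]
    exact Nat.mul_le_mul_left _ ((hT2 _ _).trans hS2))
  obtain ⟨x, hx, hxu⟩ : g.val *ᵥ u' ∈ (S.restrictScalars F).map (ac g : 𝕍 →ₗ[F] 𝕍) := by
    rw [heq]
    exact hgu'
  exact hu'S ((ac g).injective hxu ▸ hx)

end Finite

end Cfsg.Lib.Linear.OrthExt
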