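import Cfsg.Agent.Lib.Linear.OrthExt.Gen

/-!
# The quadratic extension in dimension four without singular planes

The perpendicular space of a hyperbolic pair is then anisotropic; conjugating a Siegel element by
a reflection of that plane gives one whose vectors are not orthogonal for `h`.
-/

set_option autoImplicit false

namespace Cfsg.Lib.Linear.OrthExt

open Module
open scoped Matrix
open Cfsg.Lib.Linear.Orth

variable {ι : Type} [Fintype ι] [DecidableEq ι] {F K : Type*} [Field F] [Field K] [Algebra F K]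
  [Module K (ι → F)] [IsScalarTower F K (ι → F)]
  {Q : (ι → F) → F} {B : LinearMap.BilinForm F (ι → F)} {h : LinearMap.BilinForm K (ι → F)}
  {G : Subgroup (GL ι F)}

local notation "𝕍" => (ι → F)

section Finite

variable [Finite K] [FiniteDimensional F K] [FiniteDimensional K (ι → F)]

omit [FiniteDimensional F K] in
/-- The ground field consists of squares of a quadratic extension. -/
theorem isSquare_algebraMap (h2 : (2 : K) ≠ 0) (hr : finrank F K = 2) (a : F) :
    IsSquare (algebraMap F K a) := by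
  classical
  have := Fintype.ofFinite K
  have : Finite F := Finite.of_injective _ (algebraMap F K).injective
  have := Fintype.ofFinite F
  rcases eq_or_ne a 0 with rfl | ha
  · rw [map_zero]; exact IsSquare.zero
  have hch : ringChar K ≠ 2 := fun e => h2 (by
    haveI := ringChar.charP K
    have := CharP.cast_eq_zero K (ringChar K)
    rw [e] at this
    exact_mod_cast this)
  have hchF : ringChar F ≠ 2 := fun e => h2 (by
    haveI := ringChar.charP F
    have := CharP.cast_eq_zero F (ringChar F)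
    rw [e] at this
    rw [← map_ofNat (algebraMap F K) 2, show (2 : F) = 0 by exact_mod_cast this, map_zero])
  rw [FiniteField.isSquare_iff hch ((map_ne_zero _).2 ha)]
  have hq : Fintype.card F % 2 = 1 := FiniteField.odd_card_of_char_ne_two hchF
  obtain ⟨m, hm⟩ : ∃ m, Fintype.card F = 2 * m + 1 := ⟨Fintype.card F / 2, by omega⟩
  have hK : Fintype.card K = (2 * m + 1) ^ 2 := by
    rw [Module.card_eq_pow_finrank (K := F) (V := K), hr, hm]
  have hdiv : (2 * m + 1) ^ 2 / 2 = (2 * m) * (m + 1) := by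
    rw [show (2 * m + 1) ^ 2 = 2 * ((2 * m) * (m + 1)) + 1 by ring]
    omega
  rw [hK, hdiv, pow_mul, ← map_pow, show 2 * m = Fintype.card F - 1 by omega,
    FiniteField.pow_card_sub_one_eq_one a ha, map_one, one_pow]

/-- A square off the ground field whose complement to one is not a square. -/
theorem exists_square_off (h2 : (2 : K) ≠ 0) (hr : finrank F K = 2) :
    ∃ α : K, α ^ 2 ∉ (⊥ : Subalgebra F K) ∧ ¬ IsSquare (1 - α ^ 2) := by
  classical
  by_contra hc
  push Not at hc
  have hbot : ∀ x : K, x ∈ (⊥ : Subalgebra F K) → IsSquare x := fun x hx => by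
    obtain ⟨a, rfl⟩ := Algebra.mem_bot.1 hx
    exact isSquare_algebraMap h2 hr a
  have hstep : ∀ x : K, IsSquare x → IsSquare (x - 1) := fun x hx => by
    by_cases hb : x ∈ (⊥ : Subalgebra F K)
    · exact hbot _ (sub_mem hb (one_mem _))
    obtain ⟨α, rfl⟩ := hx
    have h1 := hc α (by rwa [pow_two])
    have h3 := (hbot (-1) (neg_mem (one_mem _))).mul h1
    rwa [show (-1 : K) * (1 - α ^ 2) = α * α - 1 by ring] at h3
  have hadd : ∀ x g : K, IsSquare x → IsSquare (x - g ^ 2) := fun x g hx => by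
    rcases eq_or_ne g 0 with rfl | hg
    · simpa using hx
    have h1 := hstep (x / g ^ 2) (hx.div (IsSquare.sq g))
    have h3 := h1.mul (IsSquare.sq g)
    rwa [sub_mul, div_mul_cancel₀ _ (pow_ne_zero 2 hg), one_mul] at h3
  have := Fintype.ofFinite K
  obtain ⟨z, hz⟩ := FiniteField.exists_nonsquare (F := K) fun e => h2 (by
    haveI := ringChar.charP K
    have := CharP.cast_eq_zero K (ringChar K)
    rw [e] at this
    exact_mod_cast this)
  obtain ⟨p, hp⟩ := CharP.exists K
  have hodd : Fintype.card K % 2 = 1 := FiniteField.odd_card_of_char_ne_two fun e => h2 (by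
    haveI := ringChar.charP K
    have := CharP.cast_eq_zero K (ringChar K)
    rw [e] at this
    exact_mod_cast this)
  obtain ⟨a, b, hab⟩ := FiniteField.exists_root_sum_quadratic
    (f := (Polynomial.X : Polynomial K) ^ 2) (g := Polynomial.X ^ 2 + Polynomial.C z)
    (Polynomial.degree_X_pow 2) (Polynomial.degree_X_pow_add_C (by norm_num) z) hodd
  simp only [Polynomial.eval_add, Polynomial.eval_pow, Polynomial.eval_X, Polynomial.eval_C] at hab
  refine hz ?_
  have := hadd _ b (hadd 0 a IsSquare.zero)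
  rwa [show 0 - a ^ 2 - b ^ 2 = z by linear_combination -hab] at this

/-- Everything at a singular vector, from one Siegel element. -/
theorem exists_good_four (D : Ext Q B h) (hG : Over Q h G) (hr : finrank F K = 2)
    (h4 : finrank K 𝕍 = 4)
    (hns : ∀ p e : 𝕍, p ≠ 0 → h p p = 0 → h e e = 0 → h p e = 0 → e ∈ K ∙ p) :
    ∃ p, p ≠ 0 ∧ h p p = 0 ∧ Good Q B h G p := by
  classical
  have : Finite F := Finite.of_injective _ (algebraMap F K).injective
  have C := D.space
  have hprime : (finrank F K).Prime := hr ▸ Nat.prime_two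
  obtain ⟨A, q, e₁, t, hA⟩ := exists_flat D hG hprime
  rcases D.perp_cases (e := e₁) hA.sing with ⟨w, hw, w', hw', hne⟩ | ⟨-, hee, -⟩
  swap
  · exact absurd (hns q e₁ hA.ne0 hA.sing hee hA.perp) hA.indep
  obtain ⟨p, hpdef⟩ : ∃ p, p = (h w' w * t) • q := ⟨_, rfl⟩
  have hm : h w' w * t ≠ 0 := mul_ne_zero hne hA.ne
  have hp : h p p = 0 := by simp [hpdef, hA.sing]
  have hp0 : p ≠ 0 := hpdef ▸ smul_ne_zero hm hA.ne0
  have hQp := D.Q_sing hp
  have hpe₁ : h p (-e₁) = 0 := by simp [hpdef, hA.perp]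
  have hind : -e₁ ∉ K ∙ p := fun hm' => hA.indep (by
    obtain ⟨a, ha⟩ := Submodule.mem_span_singleton.1 hm'
    exact Submodule.mem_span_singleton.2
      ⟨-(a * (h w' w * t)), by rw [neg_smul, mul_smul, ← hpdef, ha, neg_neg]⟩)
  have hes : -e₁ ∈ sig G D hp := ⟨D.B_of_h hpe₁, hpdef ▸ hA.siegel D hG hw hw'⟩
  refine ⟨p, hp0, hp, ?_⟩
  obtain ⟨f, n₁, hff, hpf, -, -, -⟩ := D.exists_frame hp0 hp
  have hfp : h f p = 1 := by rw [D.symm, hpf]
  -- the part in the perpendicular space
  obtain ⟨y₀, hy₀def⟩ : ∃ y₀, y₀ = -e₁ - h f (-e₁) • p := ⟨_, rfl⟩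
  have hy₀ : y₀ ∈ sig G D hp := hy₀def ▸ (sig G D hp).sub_mem hes (sig_line D hG hes hpe₁ hind _)
  have hpy : h p y₀ = 0 := by rw [hy₀def, map_sub, map_smul, hp, hpe₁, smul_zero, sub_zero]
  have hfy : h f y₀ = 0 := by
    rw [hy₀def, map_sub, map_smul, hfp, smul_eq_mul, mul_one, sub_self]
  have hy₀0 : y₀ ≠ 0 := fun e0 => hind (Submodule.mem_span_singleton.2
    ⟨h f (-e₁), (sub_eq_zero.1 (hy₀def ▸ e0)).symm⟩)
  set W := perp h p f
  have hWa : ∀ x ∈ W, h x x = 0 → x = 0 := fun x hx hxx => by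
    obtain ⟨hpx, hfx⟩ := mem_perp.1 hx
    obtain ⟨a, rfl⟩ := Submodule.mem_span_singleton.1 (hns p x hp0 hp hxx hpx)
    rw [map_smul, hfp, smul_eq_mul, mul_one] at hfx
    rw [hfx, zero_smul]
  set η := h y₀ y₀ with hηdef
  have hη0 : η ≠ 0 := fun e0 => hy₀0 (hWa y₀ (mem_perp.2 ⟨hpy, hfy⟩) e0)
  have hBy : B y₀ y₀ = 0 := by
    have hBe : B (-e₁) (-e₁) = 0 := by simpa using hA.iso
    have h1 : B p (-e₁) = 0 := D.B_of_h hpe₁
    rw [hy₀def, map_sub, map_sub, LinearMap.sub_apply, LinearMap.sub_apply, hBe,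
      D.B_of_h (x := h f (-e₁) • p) (y := h f (-e₁) • p) (by simp [hp]),
      D.B_of_h (x := h f (-e₁) • p) (y := -e₁) (by simpa using Or.inr hpe₁),
      D.B_of_h (x := -e₁) (y := h f (-e₁) • p) (by
        rw [map_smul, D.symm (-e₁) p, hpe₁, smul_zero])]
    simp
  have htη : Algebra.trace F K η = 0 := by rw [hηdef, ← D.tr, hBy]
  have hQy : Q y₀ = 0 := (D.Q_zero_iff y₀).2 hBy
  -- the other basis vector of the plane
  obtain ⟨y', hy'W, hy'y, hy'0⟩ : ∃ y' ∈ W, h y₀ y' = 0 ∧ y' ≠ 0 := by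
    have h1 : finrank K 𝕍 ≤ finrank K W + 2 := D.finrank_perp p f
    have h3 := Submodule.finrank_sup_add_finrank_inf_eq W (LinearMap.ker (h y₀))
    have h5 := Submodule.finrank_le (W ⊔ LinearMap.ker (h y₀))
    have h6 := D.finrank_ker y₀
    obtain ⟨y', ⟨hy', hy''⟩, hy'0⟩ := Submodule.exists_mem_ne_zero_of_ne_bot
      (p := W ⊓ LinearMap.ker (h y₀)) (fun e0 => by rw [e0, finrank_bot] at h3; omega)
    exact ⟨y', hy', hy'', hy'0⟩
  set η' := h y' y' with hη'def
  have hη'0 : η' ≠ 0 := fun e0 => hy'0 (hWa y' hy'W e0)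
  have hεns : ¬ IsSquare (-(η' / η)) := by
    rintro ⟨g, hg⟩
    have h1 : h (g • y₀ + y') (g • y₀ + y') = 0 := by
      simp only [map_add, map_smul, LinearMap.add_apply, LinearMap.smul_apply, smul_eq_mul,
        hy'y, D.symm y' y₀, ← hηdef, ← hη'def]
      field_simp at hg
      linear_combination -hg
    have h3 := congrArg (h y')
      (hWa _ (W.add_mem (W.smul_mem g (mem_perp.2 ⟨hpy, hfy⟩)) hy'W) h1)
    rw [map_add, map_smul, D.symm y' y₀, hy'y, smul_zero, zero_add, map_zero] at h3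
    exact hη'0 h3
  have hεns' : ¬ IsSquare (η' / η) := fun hs => hεns (by
    have h1 := (isSquare_algebraMap D.two' hr (-1)).mul hs
    rwa [map_neg, map_one, neg_one_mul] at h1)
  obtain ⟨α, hα, hαns⟩ := exists_square_off (F := F) D.two' hr
  obtain ⟨β, hβ⟩ : ∃ β : K, α ^ 2 + η' / η * β ^ 2 = 1 := by
    have := Fintype.ofFinite K
    have hch : ringChar K ≠ 2 := fun e => D.two' (by
      haveI := ringChar.charP K
      have := CharP.cast_eq_zero K (ringChar K)
      rw [e] at this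
      exact_mod_cast this)
    have hsq : IsSquare ((1 - α ^ 2) / (η' / η)) := by
      have hne0 : (1 - α ^ 2) ≠ 0 := fun e0 => hαns (e0 ▸ IsSquare.zero)
      rw [FiniteField.isSquare_iff hch (div_ne_zero hne0 (div_ne_zero hη'0 hη0)), div_pow]
      rw [FiniteField.isSquare_iff hch hne0] at hαns
      rw [FiniteField.isSquare_iff hch (div_ne_zero hη'0 hη0)] at hεns'
      rw [(FiniteField.pow_dichotomy hch hne0).resolve_left hαns,
        (FiniteField.pow_dichotomy hch (div_ne_zero hη'0 hη0)).resolve_left hεns']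
      exact div_self (neg_ne_zero.2 one_ne_zero)
    obtain ⟨β, hβ⟩ := hsq
    refine ⟨β, ?_⟩
    rw [pow_two β, ← hβ, mul_div_cancel₀ _ (div_ne_zero hη'0 hη0)]
    ring
  obtain ⟨hpy', hfy'⟩ := mem_perp.1 hy'W
  set n := α • y₀ + β • y' with hn
  have hpn : h p n = 0 := by simp [hn, hpy, hpy']
  have hfn : h f n = 0 := by simp [hn, hfy, hfy']
  set c := 2⁻¹ * h n n with hcdef
  have hc : c = 2⁻¹ * η := by
    rw [hcdef]
    congr 1
    simp only [hn, map_add, map_smul, LinearMap.add_apply, LinearMap.smul_apply, smul_eq_mul, hy'y,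
      D.symm y' y₀, ← hηdef, ← hη'def]
    field_simp at hβ
    linear_combination hβ
  have hc0 : c ≠ 0 := by rw [hc]; exact mul_ne_zero (inv_ne_zero D.two') hη0
  have hay : h y₀ n = α * η := by simp [hn, hy'y, ← hηdef]
  obtain ⟨X₁, hX₁, hX₁a⟩ := hG.roots f n hff hfn
  have hw2 : h p (c⁻¹ • n) = 0 := by rw [map_smul, hpn, smul_zero]
  obtain ⟨X₂, hX₂, hX₂a⟩ := hG.roots p (c⁻¹ • n) hp hw2
  have hM : X₁ * X₂ * X₁ ∈ G := G.mul_mem (G.mul_mem hX₁ hX₂) hX₁
  set M := X₁ * X₂ * X₁ with hMdef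
  set y₁ := y₀ - (α * η / c) • n with hy₁
  have e3 : (2⁻¹ : K) * h (c⁻¹ • n) (c⁻¹ • n) = c⁻¹ := by
    simp only [map_smul, LinearMap.smul_apply, smul_eq_mul]
    calc (2⁻¹ : K) * (c⁻¹ * (c⁻¹ * h n n)) = c⁻¹ * c⁻¹ * c := by rw [hcdef]; ring
      _ = c⁻¹ := by field_simp
  have hMp : M.val *ᵥ p = (-c) • f := by
    have e1 : h (p + n - c • f) p = -c := by simp [hp, D.symm n p, hpn, hfp]
    have e2 : h (p + n - c • f) (c⁻¹ • n) = 2 := by
      simp only [map_sub, map_add, map_smul, LinearMap.sub_apply, LinearMap.add_apply,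
        LinearMap.smul_apply, hpn, hfn, smul_eq_mul, mul_zero, sub_zero, zero_add]
      calc c⁻¹ * h n n = c⁻¹ * (2 * c) := by rw [hcdef]; field_simp [D.two']
        _ = 2 := by field_simp
    rw [hMdef, mul_act, mul_act, hX₁a p, rt, hpf, hpn, one_smul, mul_one, zero_add, ← hcdef, hX₂a,
      rt, e1, e2, e3, show c⁻¹ * -c = -1 by field_simp, neg_smul c (c⁻¹ • n), smul_inv_smul₀ hc0,
      show p + n - c • f + -n - ((2 : K) + -1) • p = (-c) • f by module, hX₁a,
      rt_fix (by simp [hff]) (by simp [hfn])]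
  have hMy : M.val *ᵥ y₀ = y₁ := by
    have g1 : h (y₀ - (α * η) • f) p = -(α * η) := by
      simp [D.symm y₀ p, hpy, hfp]
    have g2 : h (y₀ - (α * η) • f) (c⁻¹ • n) = c⁻¹ * (α * η) := by
      simp [hay, hfn]
    have g3 : h (y₁ - (α * η) • f) f = 0 := by
      simp [hy₁, D.symm y₀ f, hfy, D.symm n f, hfn, hff]
    have g4 : h (y₁ - (α * η) • f) n = -(α * η) := by
      have hnn : h n n = 2 * c := by rw [hcdef]; field_simp [D.two']
      simp only [hy₁, map_sub, map_smul, LinearMap.sub_apply, LinearMap.smul_apply, smul_eq_mul,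
        hay, hnn, hfn]
      field_simp
      ring
    rw [hMdef, mul_act, mul_act, hX₁a y₀, rt_perp (by rw [D.symm, hfy]), hay, hX₂a, rt, g1, g2, e3,
      show y₀ - (α * η) • f + -(α * η) • c⁻¹ • n - (c⁻¹ * (α * η) + c⁻¹ * -(α * η)) • p =
        y₁ - (α * η) • f by rw [hy₁, div_eq_mul_inv]; module, hX₁a, rt_perp g3, g4]
    module
  -- the pairing
  set τ := B y₀ y₁ with hτdef
  have hτ : τ ≠ 0 := by
    rw [hτdef, D.tr, hy₁, map_sub, map_smul, hay, ← hηdef, map_sub, htη, smul_eq_mul]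
    intro e0
    refine hα ?_
    have e1 : α * η / c * (α * η) = 2 * (α ^ 2 * η) := by rw [hc]; field_simp [D.two']
    rw [e1, two_mul, map_add] at e0
    have h0 : Algebra.trace F K (α ^ 2 * η) = 0 := by
      have : (2 : F) * Algebra.trace F K (α ^ 2 * η) = 0 := by linear_combination -e0
      exact (mul_eq_zero.1 this).resolve_left D.two
    have hle : Submodule.span F {η} ≤ LinearMap.ker (Algebra.trace F K) :=
      (Submodule.span_singleton_le_iff_mem _ _).2 htη
    have heq := Submodule.eq_of_le_of_finrank_le hle (by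
      have h1 := (Algebra.trace F K).finrank_range_add_finrank_ker
      rw [LinearMap.range_eq_top.2 (Algebra.trace_surjective F K), finrank_top, finrank_self,
        hr] at h1
      rw [finrank_span_singleton hη0]
      omega)
    obtain ⟨a, ha⟩ := Submodule.mem_span_singleton.1 (heq ▸ (LinearMap.mem_ker.2 h0) :
      α ^ 2 * η ∈ Submodule.span F {η})
    rw [Algebra.smul_def] at ha
    exact Algebra.mem_bot.2 ⟨a, mul_right_cancel₀ hη0 ha⟩
  set v := (-c) • f with hv
  have hQv : Q v = 0 := D.Q_smul hff _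
  have hBpy : B p y₀ = 0 := D.B_of_h hpy
  have hQy₁ : Q y₁ = 0 := by rw [← hMy, mem_iso.mp (hG.le hM), hQy]
  have hBvy₁ : B v y₁ = 0 := by rw [← hMy, ← hMp, C.B_act (hG.le hM), hBpy]
  have ha : sGL Q B y₀ ((1 : F) • p) ∈ G := by
    rw [one_smul, sGL_swap C hQy hQp (by rw [C.symm, hBpy])]
    exact ((sig G D hp).neg_mem hy₀).2
  have hb : sGL Q B (τ⁻¹ • y₁) (τ • v) ∈ G := by
    rw [sGL_smul C hQy₁ (by rw [map_smul, C.symm, hBvy₁, smul_zero]), smul_smul,
      inv_mul_cancel₀ hτ, one_smul]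
    have h1 := sGL_conj C hQy (show B y₀ p = 0 by rw [C.symm, hBpy]) (hG.le hM)
    rw [hMy, hMp] at h1
    rw [← h1]
    exact G.mul_mem (G.mul_mem hM (by simpa using ha)) (G.inv_mem hM)
  have hpy₁ : B p y₁ = 0 := D.B_of_h (by simp [hy₁, hpy, hpn])
  have hpv : B p v = 0 := by
    rw [hv, D.smul_right, hpf, mul_one, hc, map_neg, neg_eq_zero,
      show (2 : K)⁻¹ = algebraMap F K 2⁻¹ by rw [map_inv₀, map_ofNat], ← Algebra.smul_def,
      map_smul, htη, smul_zero]
  have hres := OrthSub.rule_coeff C hG.le (x := y₀) (y := p) (u := τ⁻¹ • y₁) (v := v)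
    (a := (1 : F)) (b := τ) hQy hQp (by rw [C.smul, hQy₁, mul_zero]) hQv
    (by rw [C.symm, hBpy]) (by rw [LinearMap.map_smul₂, C.symm, hBvy₁, smul_zero])
    (by rw [map_smul, hpy₁, smul_zero]) hpv
    (by rw [hv, D.smul_right, D.symm, hfy, mul_zero, map_zero])
    (by rw [map_smul, ← hτdef, smul_eq_mul, inv_mul_cancel₀ hτ]) ha hb
  rw [one_mul] at hres
  refine good_of_cross D hG hp (y := τ • v) ⟨by rw [map_smul, hpv, smul_zero], hres⟩ ?_
  rw [LinearMap.map_smul_of_tower, hv, map_smul, hpf, smul_eq_mul, mul_one, Algebra.smul_def]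
  exact mul_ne_zero ((map_ne_zero _).2 hτ) (neg_ne_zero.2 hc0)

/-- Dimension four without singular planes: every such group contains `Ω`. -/
theorem root_top_le_four (D : Ext Q B h) (hG : Over Q h G) (hr : finrank F K = 2)
    (h4 : finrank K 𝕍 = 4)
    (hns : ∀ p e : 𝕍, p ≠ 0 → h p p = 0 → h e e = 0 → h p e = 0 → e ∈ K ∙ p) :
    Root Q B ⊤ ≤ G := by
  obtain ⟨p, hp0, hp, hgood⟩ := exists_good_four D hG hr h4 hns
  exact root_top_of_good D hG (hr ▸ Nat.prime_two) hp0 hp hp0 hp hgood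

end Finite

end Cfsg.Lib.Linear.OrthExt
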