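import Cfsg.Agent.Lib.Linear.OrthExt.Seed

/-!
# Overgroups of the orthogonal group over an extension field contain `Ω`

One Siegel element centred at a singular vector of `h` gives all of them, and these generate `Ω`.
-/

set_option autoImplicit false

namespace Cfsg.Lib.Linear.OrthExt

open Module
open scoped Matrix
open Cfsg.Lib.Linear.Orth

variable {ι : Type} [Fintype ι] [DecidableEq ι] {F K : Type*} [Field F] [Field K] [Algebra F K]
  [Module K (ι → F)] [IsScalarTower F K (ι → F)]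
  {Q : (ι → F) → F} {B : LinearMap.BilinForm F (ι → F)} {h : LinearMap.BilinForm K (ι → F)}
  {G : Subgroup (GL ι F)}

local notation "𝕍" => (ι → F)

variable (Q B h G) in
/-- The Siegel elements of a vector lie in the group for every vector orthogonal to it for `h`. -/
def Good (v : 𝕍) : Prop := ∀ y, h v y = 0 → sGL Q B v y ∈ G

variable (G) in
/-- The vectors whose Siegel element at a singular vector lies in the group. -/
def sig (D : Ext Q B h) {v : 𝕍} (hv : h v v = 0) : AddSubgroup 𝕍 where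
  carrier := {y | B v y = 0 ∧ sGL Q B v y ∈ G}
  add_mem' := fun {a b} ha hb => ⟨by rw [map_add, ha.1, hb.1, add_zero], by
    rw [← sGL_mul D.space (D.Q_sing hv) ha.1 hb.1]
    exact G.mul_mem ha.2 hb.2⟩
  zero_mem' := ⟨map_zero _, by
    have : sGL Q B v 0 = 1 := gl_ext fun x => by
      rw [sGL_act D.space (D.Q_sing hv) (map_zero _), D.space.zero]
      simp
    rw [this]
    exact G.one_mem⟩
  neg_mem' := fun {a} ha => ⟨by rw [map_neg, ha.1, neg_zero], by
    have h1 : sGL Q B v a * sGL Q B v (-a) = 1 := gl_ext fun x => by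
      rw [sGL_mul D.space (D.Q_sing hv) ha.1 (by rw [map_neg, ha.1, neg_zero]), add_neg_cancel,
        sGL_act D.space (D.Q_sing hv) (map_zero _), D.space.zero]
      simp
    rw [← inv_eq_of_mul_eq_one_right h1]
    exact G.inv_mem ha.2⟩

theorem mem_sig {D : Ext Q B h} {v : 𝕍} {hv : h v v = 0} {y : 𝕍} :
    y ∈ sig G D hv ↔ B v y = 0 ∧ sGL Q B v y ∈ G := Iff.rfl

/-- Conjugating by a root element which fixes the centre. -/
theorem sig_root (D : Ext Q B h) (hG : Over Q h G) {v u z y : 𝕍} {hv : h v v = 0}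
    (hy : y ∈ sig G D hv) (hu : h u u = 0) (huz : h u z = 0) (hvu : h v u = 0) (hvz : h v z = 0) :
    h y u • z - (h y z + 2⁻¹ * h z z * h y u) • u ∈ sig G D hv := by
  obtain ⟨X, hX, hXa⟩ := hG.roots u z hu huz
  have hXv : X.val *ᵥ v = v := by rw [hXa, rt_fix hvu hvz]
  have h1 : X.val *ᵥ y ∈ sig G D hv := ⟨by rw [← hXv, D.space.B_act (hG.le hX)]; exact hy.1, by
    have := sGL_conj D.space (D.Q_sing hv) hy.1 (hG.le hX)
    rw [hXv] at this
    rw [← this]
    exact G.mul_mem (G.mul_mem hX hy.2) (G.inv_mem hX)⟩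
  have h2 := (sig G D hv).sub_mem h1 hy
  rwa [hXa, rt, show y + h y u • z - (h y z + 2⁻¹ * h z z * h y u) • u - y =
    h y u • z - (h y z + 2⁻¹ * h z z * h y u) • u by abel] at h2

theorem smul_mem_of_sq (D : Ext Q B h) {A : AddSubgroup 𝕍} {c : K} {v : 𝕍} (hc : c ≠ 0)
    (hA : ∀ β : K, (β ^ 2 * c) • v ∈ A) (k : K) : k • v ∈ A := by
  have h1 := A.sub_mem (hA ((k / c + 1) / 2)) (hA ((k / c - 1) / 2))
  rwa [← sub_smul, show ((k / c + 1) / 2) ^ 2 * c - ((k / c - 1) / 2) ^ 2 * c = k by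
    field_simp [D.two', hc]; ring] at h1

/-- From one vector not orthogonal to a singular one, the whole orthogonal space. -/
theorem spread (D : Ext Q B h) (hG : Over Q h G) {v u n y : 𝕍} {hv : h v v = 0}
    (hy : y ∈ sig G D hv) (hu : h u u = 0) (hvu : h v u = 0) (hyu : h y u ≠ 0)
    (hun : h u n = 0) (hvn : h v n = 0) (hnn : h n n ≠ 0) :
    (∀ k : K, k • u ∈ sig G D hv) ∧ ∀ z, h u z = 0 → h v z = 0 → z ∈ sig G D hv := by
  have hline : ∀ k : K, k • u ∈ sig G D hv := by
    refine smul_mem_of_sq D (c := -(h n n * h y u)) (neg_ne_zero.2 (mul_ne_zero hnn hyu)) fun β => ?_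
    have h1 := sig_root D hG hy hu (z := β • n) (by simp [hun]) hvu (by simp [hvn])
    have h2 := sig_root D hG hy hu (z := -(β • n)) (by simp [hun]) hvu (by simp [hvn])
    have h3 := (sig G D hv).add_mem h1 h2
    simp only [map_neg, map_smul, LinearMap.neg_apply, LinearMap.smul_apply, smul_eq_mul, neg_neg,
      smul_neg] at h3
    convert h3 using 1
    match_scalars <;> field_simp [D.two'] <;> ring
  refine ⟨hline, fun z huz hvz => ?_⟩
  have h1 := sig_root D hG hy hu (z := (h y u)⁻¹ • z) (by simp [huz]) hvu (by simp [hvz])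
  rw [smul_smul, mul_inv_cancel₀ hyu, one_smul] at h1
  have h2 := (sig G D hv).add_mem h1
    (hline (h y ((h y u)⁻¹ • z) + 2⁻¹ * h ((h y u)⁻¹ • z) ((h y u)⁻¹ • z) * h y u))
  rwa [sub_add_cancel] at h2

section Finite

variable [Finite K] [FiniteDimensional F K] [FiniteDimensional K (ι → F)]

/-- Isometries commuting with the scalars preserve `h`. -/
theorem h_act (D : Ext Q B h) {M : GL ι F} (hM : M ∈ isometryGroup F Q)
    (hl : ∀ (k : K) v, M.val *ᵥ (k • v) = k • M.val *ᵥ v) (x y : 𝕍) :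
    h (M.val *ᵥ x) (M.val *ᵥ y) = h x y :=
  ext_trace (F := F) fun k => by rw [← D.smul_left, ← D.smul_left, ← hl, D.space.B_act hM]

theorem Good.all (D : Ext Q B h) (hG : Over Q h G) {v : 𝕍} (hgood : Good Q B h G v) (hv0 : v ≠ 0)
    (hv : h v v = 0) {v' : 𝕍} (hv0' : v' ≠ 0) (hv' : h v' v' = 0) : Good Q B h G v' := by
  intro y hy
  obtain ⟨M, hM, hMv, hl⟩ := exists_move D hG hv0 hv hv0' hv'
  set y₀ := (M⁻¹ : GL ι F).val *ᵥ y
  have hy₀ : h v y₀ = 0 := by rw [← h_act D (hG.le hM) hl, hMv, act_inv, hy]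
  have := sGL_conj D.space (D.Q_sing hv) (D.B_of_h hy₀) (hG.le hM)
  rw [hMv, act_inv] at this
  rw [← this]
  exact G.mul_mem (G.mul_mem hM (hgood y₀ hy₀)) (G.inv_mem hM)

/-- A vector with a non-orthogonal partner gives everything at a singular vector. -/
theorem good_of_cross (D : Ext Q B h) (hG : Over Q h G) {v y : 𝕍} (hv : h v v = 0)
    (hy : y ∈ sig G D hv) (hvy : h v y ≠ 0) : Good Q B h G v := by
  have hv0 : v ≠ 0 := fun e => hvy (by rw [e, map_zero, LinearMap.zero_apply])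
  obtain ⟨f, n, -, -, hvn, -, hnn⟩ := D.exists_frame hv0 hv
  exact fun z hz => ((spread D hG hy hv hv (by rwa [D.symm]) hvn hvn hnn).2 z hz hz).2

theorem sig_line (D : Ext Q B h) (hG : Over Q h G) {p e : 𝕍} {hp : h p p = 0}
    (he : e ∈ sig G D hp) (hpe : h p e = 0) (hind : e ∉ K ∙ p) (k : K) : k • p ∈ sig G D hp := by
  obtain ⟨φ, hφe, hφp⟩ := Submodule.exists_dual_map_eq_bot_of_notMem hind inferInstance
  have hφ'p : φ p = 0 := by
    have h1 : φ p ∈ (K ∙ p).map φ := ⟨p, Submodule.mem_span_singleton_self p, rfl⟩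
    rwa [hφp, Submodule.mem_bot] at h1
  obtain ⟨s, hs⟩ := D.exists_dual φ
  have h1 := sig_root D hG he hp (z := (-k / φ e) • s) (by simp [D.symm p s, hs, hφ'p]) hp
    (by simp [D.symm p s, hs, hφ'p])
  rw [show h e p = 0 by rw [D.symm, hpe], zero_smul, zero_sub, mul_zero, add_zero, map_smul,
    D.symm e s, hs, smul_eq_mul, div_mul_cancel₀ _ hφe, neg_smul, neg_neg] at h1
  exact h1

/-- A non-singular vector orthogonal to a singular vector inside the orthogonal space. -/
theorem exists_nonsing_perp (D : Ext Q B h) (h5 : 5 ≤ finrank K 𝕍) {v f u : 𝕍} (hv : h v v = 0)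
    (hf : h f f = 0) (hvf : h v f = 1) (hu0 : u ≠ 0) (huW : u ∈ perp h v f) (hu : h u u = 0) :
    ∃ n, h v n = 0 ∧ h f n = 0 ∧ h u n = 0 ∧ h n n ≠ 0 := by
  set W := perp h v f
  have hfv : h f v = 1 := by rw [D.symm, hvf]
  have hproj : ∀ b, b - h f b • v - h v b • f ∈ W := fun b => mem_perp.2
    ⟨by simp [hv, hvf], by simp [hf, hfv]⟩
  obtain ⟨a, ha, hua⟩ : ∃ a ∈ W, h u a ≠ 0 := by
    by_contra hc
    push Not at hc
    refine hu0 (D.sep fun b => ?_)
    have := hc _ (hproj b)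
    simpa [D.symm u v, (mem_perp.1 huW).1, D.symm u f, (mem_perp.1 huW).2] using this
  obtain ⟨f₂, hf₂, hf₂f₂, huf₂⟩ := D.exists_partner huW ha hu hua
  by_contra hc
  push Not at hc
  set U := W ⊓ LinearMap.ker (h u)
  have hiso : ∀ a ∈ U, ∀ b ∈ U, h a b = 0 := by
    intro a ha b hb
    have key : ∀ c ∈ U, h c c = 0 := fun c hc' =>
      hc c (mem_perp.1 hc'.1).1 (mem_perp.1 hc'.1).2 hc'.2
    have h1 := key _ (U.add_mem ha hb)
    simp only [map_add, LinearMap.add_apply, key a ha, key b hb, D.symm b a] at h1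
    have h2 : (2 : K) * h a b = 0 := by linear_combination h1
    exact (mul_eq_zero.1 h2).resolve_left D.two'
  have hU : U ⊓ LinearMap.ker (h f₂) ≠ ⊥ := fun e => by
    have h1 : finrank K 𝕍 ≤ finrank K W + 2 := D.finrank_perp v f
    have h2 := Submodule.finrank_sup_add_finrank_inf_eq W (LinearMap.ker (h u))
    have h3 := Submodule.finrank_sup_add_finrank_inf_eq U (LinearMap.ker (h f₂))
    have h4 := Submodule.finrank_le (W ⊔ LinearMap.ker (h u))
    have h5' := Submodule.finrank_le (U ⊔ LinearMap.ker (h f₂))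
    have h6 := D.finrank_ker u
    have h7 := D.finrank_ker f₂
    rw [e, finrank_bot] at h3
    change finrank K ↥(W ⊔ LinearMap.ker (h u)) + finrank K ↥U = _ at h2
    omega
  obtain ⟨b, ⟨hbU, hbf⟩, hb0⟩ := Submodule.exists_mem_ne_zero_of_ne_bot hU
  refine hb0 (D.sep fun x => ?_)
  obtain ⟨hbW, hbu⟩ := hbU
  set w := x - h f x • v - h v x • f
  have hw' : w - h u w • f₂ ∈ U := ⟨W.sub_mem (hproj x) (W.smul_mem _ hf₂), by
    show h u (w - h u w • f₂) = 0
    simp [huf₂]⟩
  have h1 := hiso b ⟨hbW, hbu⟩ _ hw'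
  rw [map_sub, map_smul, D.symm b f₂, LinearMap.mem_ker.1 hbf, smul_zero, sub_zero] at h1
  simpa [w, D.symm b v, (mem_perp.1 hbW).1, D.symm b f, (mem_perp.1 hbW).2] using h1

/-- A vector orthogonal for `h` gives everything in dimension at least five. -/
theorem good_of_orth (D : Ext Q B h) (hG : Over Q h G) (h5 : 5 ≤ finrank K 𝕍) {v e : 𝕍}
    (hv0 : v ≠ 0) (hv : h v v = 0) (he : e ∈ sig G D hv) (hve : h v e = 0) (hind : e ∉ K ∙ v) :
    Good Q B h G v := by
  have hline := sig_line D hG he hve hind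
  obtain ⟨f, n₀, hf, hvf, -, -, -⟩ := D.exists_frame hv0 hv
  have hfv : h f v = 1 := by rw [D.symm, hvf]
  set W := perp h v f
  set e₀ := e - h f e • v
  have he₀ : e₀ ∈ sig G D hv := (sig G D hv).sub_mem he (hline _)
  have he₀W : e₀ ∈ W := mem_perp.2 ⟨by simp [e₀, hv, hve], by simp [e₀, hfv]⟩
  have he₀0 : e₀ ≠ 0 := fun e0 => hind
    (Submodule.mem_span_singleton.2 ⟨h f e, (sub_eq_zero.1 e0).symm⟩)
  have hproj : ∀ b, b - h f b • v - h v b • f ∈ W := fun b => mem_perp.2
    ⟨by simp [hv, hvf], by simp [hf, hfv]⟩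
  have hWnd : ∀ x ∈ W, (∀ y ∈ W, h x y = 0) → x = 0 := fun x hx hxy => D.sep fun b => by
    have := hxy _ (hproj b)
    simpa [D.symm x v, (mem_perp.1 hx).1, D.symm x f, (mem_perp.1 hx).2] using this
  obtain ⟨u₀, hu₀W, hu₀0, hu₀⟩ := D.exists_singular W (by
    have : finrank K 𝕍 ≤ finrank K W + 2 := D.finrank_perp v f
    omega)
  obtain ⟨u, huW, hu, hyu⟩ : ∃ u ∈ W, h u u = 0 ∧ h e₀ u ≠ 0 := by
    by_contra hc
    push Not at hc
    exact he₀0 (hWnd e₀ he₀W (D.sing_span hWnd hu₀W hu₀0 hu₀ hc))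
  have hu0 : u ≠ 0 := fun e0 => hyu (by rw [e0, map_zero])
  obtain ⟨hvu, hfu⟩ := mem_perp.1 huW
  obtain ⟨n, hvn, -, hun, hnn⟩ := exists_nonsing_perp D h5 hv hf hvf hu0 huW hu
  obtain ⟨hKu, hperp⟩ := spread D hG he₀ hu hvu hyu hun hvn hnn
  obtain ⟨f₂, hf₂W, hf₂, huf₂⟩ := D.exists_partner huW he₀W hu (by rwa [D.symm])
  have hf₂0 : f₂ ≠ 0 := fun e0 => by rw [e0, map_zero] at huf₂; exact zero_ne_one huf₂
  obtain ⟨hvf₂, hff₂⟩ := mem_perp.1 hf₂W
  obtain ⟨n₂, hvn₂, -, hf₂n₂, hn₂⟩ := exists_nonsing_perp D h5 hv hf hvf hf₂0 hf₂W hf₂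
  have hu1 : u ∈ sig G D hv := by simpa using hKu 1
  obtain ⟨hKf₂, -⟩ := spread D hG hu1 hf₂ hvf₂ (by rw [huf₂]; exact one_ne_zero) hf₂n₂ hvn₂ hn₂
  intro z hz
  have hw : z - h f z • v ∈ sig G D hv := by
    rw [show z - h f z • v = (z - h f z • v - h u z • f₂) + h u z • f₂ by abel]
    exact (sig G D hv).add_mem (hperp _ (by simp [D.symm u v, hvu, huf₂]) (by simp [hv, hz, hvf₂]))
      (hKf₂ _)
  have := (sig G D hv).add_mem hw (hline (h f z))
  rw [sub_add_cancel] at this
  exact this.2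

/-- A Siegel element inside a line gives everything. -/
theorem good_of_plane (D : Ext Q B h) (hG : Over Q h G) (hr : (finrank F K).Prime)
    (h3 : 3 ≤ finrank F K) {p : 𝕍} (hp0 : p ≠ 0) (hp : h p p = 0) {γ : K}
    (hγ : γ ∉ (⊥ : Subalgebra F K)) (hmem : sGL Q B p (γ • p) ∈ G) :
    ∃ v, v ≠ 0 ∧ h v v = 0 ∧ Good Q B h G v := by
  classical
  have : Finite F := Finite.of_injective _ (algebraMap F K).injective
  have hγ0 : γ ≠ 0 := fun e => hγ (e ▸ Subalgebra.zero_mem _)
  -- a multiplier with prescribed traces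
  obtain ⟨κ, hκ1, hκ2, hκ3⟩ : ∃ κ, Algebra.trace F K κ = 1 ∧ Algebra.trace F K (γ * κ) = 0 ∧
      Algebra.trace F K (γ * γ * κ) = 0 := by
    have h1 : (1 : K) ∉ Submodule.span F ({γ, γ * γ} : Set K) := by
      intro h1
      obtain ⟨a, b, hab⟩ := Submodule.mem_span_pair.1 h1
      have hb : b ≠ 0 := fun e => hγ (by
        rw [e, zero_smul, add_zero] at hab
        have ha : a ≠ 0 := fun ea => by rw [ea, zero_smul] at hab; exact zero_ne_one hab
        rw [show γ = algebraMap F K a⁻¹ by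
          rw [Algebra.algebraMap_eq_smul_one, ← hab, smul_smul, inv_mul_cancel₀ ha, one_smul]]
        exact Subalgebra.algebraMap_mem _ _)
      set U := Submodule.span F ({1, γ} : Set K) with hU
      have hγγ : γ * γ ∈ U := by
        refine Submodule.mem_span_pair.2 ⟨b⁻¹, -(b⁻¹ * a), ?_⟩
        rw [← hab, smul_add, smul_smul, smul_smul, inv_mul_cancel₀ hb, one_smul, neg_smul]
        abel
      let S : Subalgebra F K :=
        { carrier := {a | ∀ c ∈ U, a * c ∈ U}
          mul_mem' := fun {a b} ha hb c hc => by rw [mul_assoc]; exact ha _ (hb _ hc)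
          one_mem' := fun c hc => by rwa [one_mul]
          add_mem' := fun {a b} ha hb c hc => by rw [add_mul]; exact U.add_mem (ha _ hc) (hb _ hc)
          zero_mem' := fun c _ => by rw [zero_mul]; exact U.zero_mem
          algebraMap_mem' := fun a c hc => by rw [← Algebra.smul_def]; exact U.smul_mem a hc }
      have hS : γ ∈ S := fun c hc => by
        obtain ⟨s, t, rfl⟩ := Submodule.mem_span_pair.1 hc
        rw [mul_add, mul_smul_comm, mul_smul_comm, mul_one]
        exact U.add_mem (U.smul_mem _ (Submodule.subset_span (by simp))) (U.smul_mem _ hγγ)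
      have := Subalgebra.isSimpleOrder_of_finrank_prime F K hr
      have hS' := (eq_bot_or_eq_top S).resolve_left fun e => hγ (e ▸ hS)
      have htop : (⊤ : Submodule F K) ≤ U := fun x _ => by
        have hx : x ∈ S := hS' ▸ Algebra.mem_top
        have := hx 1 (Submodule.subset_span (by simp))
        rwa [mul_one] at this
      have hle := Submodule.finrank_mono htop
      rw [finrank_top] at hle
      have h2 := finrank_span_finset_le_card (R := F) ({1, γ} : Finset K)
      rw [Finset.coe_pair] at h2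
      have := hle.trans (h2.trans Finset.card_le_two)
      omega
    obtain ⟨φ, hφ1, hφ⟩ := Submodule.exists_dual_map_eq_bot_of_notMem h1 inferInstance
    set κ := ((Algebra.traceForm F K).toDual (traceForm_nondegenerate F K)).symm ((φ 1)⁻¹ • φ)
    have hκ : ∀ k, Algebra.trace F K (k * κ) = (φ 1)⁻¹ * φ k := fun k => by
      have := LinearMap.BilinForm.apply_toDual_symm_apply (hB := traceForm_nondegenerate F K)
        ((φ 1)⁻¹ • φ) k
      rw [Algebra.traceForm_apply, mul_comm] at this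
      exact this
    have hker : ∀ x ∈ Submodule.span F ({γ, γ * γ} : Set K), φ x = 0 := fun x hx => by
      have h2 : φ x ∈ (Submodule.span F ({γ, γ * γ} : Set K)).map φ := ⟨x, hx, rfl⟩
      rwa [hφ, Submodule.mem_bot] at h2
    refine ⟨κ, ?_, ?_, ?_⟩
    · have := hκ 1
      rwa [one_mul, inv_mul_cancel₀ hφ1] at this
    · rw [hκ, hker γ (Submodule.subset_span (by simp)), mul_zero]
    · rw [hκ, hker (γ * γ) (Submodule.subset_span (by simp)), mul_zero]
  have hκ0 : κ ≠ 0 := fun e => by rw [e, map_zero] at hκ1; exact zero_ne_one hκ1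
  obtain ⟨f, n, hf, hpf, -, -, -⟩ := D.exists_frame hp0 hp
  have hf0 : f ≠ 0 := fun e => by rw [e, map_zero] at hpf; exact zero_ne_one hpf
  obtain ⟨M, hM, hMp, hl⟩ := exists_move D hG hp0 hp (smul_ne_zero hκ0 hf0) (by simp [hf])
  have hQp := D.Q_sing hp
  have hpγ : B p (γ • p) = 0 := D.B_of_h (by simp [hp])
  have hb : sGL Q B (κ • f) ((κ * γ) • f) ∈ G := by
    have := sGL_conj D.space hQp hpγ (hG.le hM)
    rw [hMp, hl, hMp, smul_smul, mul_comm γ] at this
    rw [← this]
    exact G.mul_mem (G.mul_mem hM hmem) (G.inv_mem hM)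
  have hyv : B (γ • p) ((κ * γ) • f) = 0 := by
    rw [D.smul_left, map_smul, hpf, smul_eq_mul, mul_one, show γ * (κ * γ) = γ * γ * κ by ring, hκ3]
  have hres := OrthSub.rule_coeff D.space hG.le (x := p) (y := γ • p) (u := κ • f)
    (v := (κ * γ) • f) (a := (1 : F)) (b := 1) hQp (D.Q_smul hp γ) (D.Q_smul hf κ)
    (D.Q_smul hf _) hpγ (D.B_of_h (by simp [hf]))
    (by rw [D.smul_left, map_smul, hpf, smul_eq_mul, mul_one, hκ2]) hyv
    (by rw [D.smul_right, hpf, mul_one, mul_comm, hκ2])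
    (by rw [D.smul_right, hpf, mul_one, hκ1]) (by rwa [one_smul]) (by rwa [one_smul])
  rw [mul_one, one_smul] at hres
  have hv : h (γ • p) (γ • p) = 0 := by simp [hp]
  refine ⟨γ • p, smul_ne_zero hγ0 hp0, hv,
    good_of_cross D hG hv (y := (κ * γ) • f) ⟨hyv, hres⟩ ?_⟩
  simp [hpf, hκ0, hγ0]

/-- All Siegel elements at a singular vector of `h`. -/
theorem full_of_good (D : Ext Q B h) (hG : Over Q h G) (hr : 2 ≤ finrank F K)
    (hgood : ∀ v, v ≠ 0 → h v v = 0 → Good Q B h G v) {p : 𝕍} (hp0 : p ≠ 0) (hp : h p p = 0)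
    {y : 𝕍} (hy : B p y = 0) : sGL Q B p y ∈ G := by
  have : Finite F := Finite.of_injective _ (algebraMap F K).injective
  obtain ⟨f, n, hf, hpf, -, -, -⟩ := D.exists_frame hp0 hp
  have hfp : h f p = 1 := by rw [D.symm, hpf]
  set δ := h p y
  have hδ : Algebra.trace F K δ = 0 := by rw [← D.tr]; exact hy
  have hQp := D.Q_sing hp
  have h1 : h p (y - δ • f) = 0 := by simp [hpf, δ]
  have hBpf : B p (δ • f) = 0 := by rw [D.smul_right, hpf, mul_one, hδ]
  have hsplit : sGL Q B p y = sGL Q B p (δ • f) * sGL Q B p (y - δ • f) := by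
    rw [sGL_mul D.space hQp hBpf (D.B_of_h h1), add_sub_cancel]
  rw [hsplit]
  refine G.mul_mem ?_ (hgood p hp0 hp _ h1)
  rcases eq_or_ne δ 0 with hδ0 | hδ0
  · rw [hδ0, zero_smul]
    exact hgood p hp0 hp 0 (map_zero _)
  have hf0 : f ≠ 0 := fun e => by rw [e, map_zero] at hpf; exact zero_ne_one hpf
  set W := perp h p f
  have hproj : ∀ b, b - h f b • p - h p b • f ∈ W := fun b => mem_perp.2
    ⟨by simp [hp, hpf], by simp [hf, hfp]⟩
  have hnd : NDeg B (W.restrictScalars F) := fun x hx hxy => by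
    refine D.sep fun b => ?_
    have h0 : h x (b - h f b • p - h p b • f) = 0 := ext_trace (F := F) fun k => by
      rw [← D.smul_right, mul_zero, map_zero]
      exact hxy _ (W.smul_mem k (hproj b))
    simpa [D.symm x p, (mem_perp.1 hx).1, D.symm x f, (mem_perp.1 hx).2] using h0
  obtain ⟨w₁, f₁, hH⟩ := exists_hyp' D.space hnd (by
    rw [show finrank F (W.restrictScalars F) = finrank F K * finrank K W from
      (Module.finrank_mul_finrank F K W).symm]
    have h2 : finrank K 𝕍 ≤ finrank K W + 2 := D.finrank_perp p f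
    have := D.dim
    have := Nat.mul_le_mul hr (show 2 ≤ finrank K W by omega)
    omega)
  obtain ⟨hpw, hfw⟩ := mem_perp.1 hH.memE
  obtain ⟨hpf₁, hff₁⟩ := mem_perp.1 hH.memF
  have hδf : h (δ • f) (δ • f) = 0 := by simp [hf]
  have ha : sGL Q B w₁ p ∈ G := by
    rw [sGL_swap D.space hH.singE hQp (D.B_of_h (by rw [D.symm, hpw]))]
    exact hgood p hp0 hp _ (by rw [map_neg, hpw, neg_zero])
  have hb : sGL Q B f₁ (δ • f) ∈ G := by
    rw [sGL_swap D.space hH.singF (D.Q_smul hf δ) (D.B_of_h (by simp [D.symm f₁ f, hff₁]))]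
    exact hgood _ (smul_ne_zero hδ0 hf0) hδf _ (by simp [hff₁])
  have hres := OrthSub.rule_coeff D.space hG.le (x := w₁) (y := p) (u := f₁) (v := δ • f)
    (a := (1 : F)) (b := 1) hH.singE hQp hH.singF (D.Q_smul hf δ)
    (D.B_of_h (by rw [D.symm, hpw])) (D.B_of_h (by simp [D.symm f₁ f, hff₁])) (D.B_of_h hpf₁) hBpf
    (D.B_of_h (by simp [D.symm w₁ f, hfw])) hH.pair (by rwa [one_smul]) (by rwa [one_smul])
  rwa [mul_one, one_smul] at hres

/-- Two opposite full centres make every centre not orthogonal to the first full. -/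
theorem full_move (D : Ext Q B h) (hG : Over Q h G) {x f z : 𝕍} (hx : Q x = 0) (hf : Q f = 0)
    (hxf : B x f = 1) (Fx : ∀ y, B x y = 0 → sGL Q B x y ∈ G)
    (Ff : ∀ y, B f y = 0 → sGL Q B f y ∈ G) (hz : Q z = 0) (hxz : B x z ≠ 0) {y : 𝕍}
    (hy : B z y = 0) : sGL Q B z y ∈ G := by
  have C := D.space
  set c := B x z
  set z' := c⁻¹ • z with hz'
  have hQz' : Q z' = 0 := by rw [hz', C.smul, hz, mul_zero]
  have hxz' : B x z' = 1 := by rw [hz', map_smul, smul_eq_mul, inv_mul_cancel₀ hxz]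
  set a := z' - f - B f z' • x
  have hxa : B x a = 0 := by simp [a, hxz', hxf, C.self_zero hx]
  have hfx : B f x = 1 := by rw [C.symm, hxf]
  have hQa : Q a = -B f z' := by
    have e : z' = a + f + B f z' • x := by simp only [a]; abel
    have h1 : Q z' = Q a + B f z' + B a f := by
      conv_lhs => rw [e]
      rw [C.add, C.add, C.smul, hx, hf]
      simp only [map_add, LinearMap.add_apply, map_smul, C.symm a x, hxa, hfx, smul_eq_mul]
      ring
    have h2 : B a f = 0 := by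
      rw [C.symm]
      simp [a, C.self_zero hf, hfx]
    rw [hQz', h2] at h1
    linear_combination -h1
  have hfa : B a f = 0 := by
    rw [C.symm]
    simp [a, C.self_zero hf, hfx]
  have hmove : (sGL Q B x a).val *ᵥ f = z' := by
    rw [sGL_act C hx hxa, hxf, hfa, hQa]
    simp only [a]
    module
  set M := sGL Q B x a
  have hM : M ∈ G := Fx a hxa
  set y₀ := (M⁻¹ : GL ι F).val *ᵥ (c • y)
  have hfy₀ : B f y₀ = 0 := by
    rw [← C.B_act (hG.le hM), hmove, act_inv, hz', LinearMap.map_smul₂, map_smul, hy, smul_zero,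
      smul_zero]
  have h1 := sGL_conj C hf hfy₀ (hG.le hM)
  rw [hmove, act_inv] at h1
  have h2 : sGL Q B z y = sGL Q B z' (c • y) := by
    rw [← sGL_smul C hQz' (by rw [hz', LinearMap.map_smul₂, hy, smul_zero]), hz', smul_smul,
      mul_inv_cancel₀ hxz, one_smul]
  rw [h2, ← h1]
  exact G.mul_mem (G.mul_mem hM (Ff y₀ hfy₀)) (G.inv_mem hM)

/-- Everything at one singular vector gives `Ω`. -/
theorem root_top_of_good (D : Ext Q B h) (hG : Over Q h G) (hr : (finrank F K).Prime) {p v : 𝕍}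
    (hp0 : p ≠ 0) (hp : h p p = 0) (hv0 : v ≠ 0) (hv : h v v = 0) (hgood : Good Q B h G v) :
    Root Q B ⊤ ≤ G := by
  classical
  have : Finite F := Finite.of_injective _ (algebraMap F K).injective
  have C := D.space
  have hall : ∀ v', v' ≠ 0 → h v' v' = 0 → Good Q B h G v' :=
    fun v' h0 h1 => hgood.all D hG hv0 hv h0 h1
  obtain ⟨f, n, hf, hpf, -, -, -⟩ := D.exists_frame hp0 hp
  obtain ⟨κ, hκ⟩ := Algebra.trace_surjective F K 1
  have hκ0 : κ ≠ 0 := fun e => by rw [e, map_zero] at hκ; exact zero_ne_one hκ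
  have hf0 : f ≠ 0 := fun e => by rw [e, map_zero] at hpf; exact zero_ne_one hpf
  set g₀ := κ • f
  have hQp := D.Q_sing hp
  have hQg : Q g₀ = 0 := D.Q_smul hf κ
  have hpg : B p g₀ = 1 := by rw [D.smul_right, hpf, mul_one, hκ]
  have Fp : ∀ y, B p y = 0 → sGL Q B p y ∈ G := fun y hy =>
    full_of_good D hG hr.two_le hall hp0 hp hy
  have Fg : ∀ y, B g₀ y = 0 → sGL Q B g₀ y ∈ G := fun y hy =>
    full_of_good D hG hr.two_le hall (smul_ne_zero hκ0 hf0) (by simp [g₀, hf]) hy
  refine (Subgroup.closure_le _).2 ?_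
  rintro _ ⟨z, a, -, -, hz, hza, rfl⟩
  rcases eq_or_ne z 0 with rfl | hz0
  · have : sGL Q B 0 a = 1 := gl_ext fun x => by
      rw [sGL_act C hz hza, Units.val_one, Matrix.one_mulVec]
      simp
    rw [this]
    exact G.one_mem
  by_cases hpz : B p z = 0
  swap
  · exact full_move D hG hQp hQg hpg Fp Fg hz hpz hza
  -- a centre not orthogonal to either
  obtain ⟨z₂, hz₂, hpz₂, hzz₂⟩ : ∃ z₂, Q z₂ = 0 ∧ B p z₂ = 1 ∧ B z z₂ ≠ 0 := by
    by_cases hzg : B z g₀ = 0
    · obtain ⟨w, hw⟩ : ∃ w, B z w ≠ 0 := by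
        by_contra hc
        push Not at hc
        exact hz0 (C.nondeg' hc)
      set w' := w - B g₀ w • p - B p w • g₀ with hw'
      have hgp : B g₀ p = 1 := by rw [C.symm, hpg]
      have hpw : B p w' = 0 := by simp [hw', C.self_zero hQp, hpg]
      have hgw : B g₀ w' = 0 := by simp [hw', C.self_zero hQg, hgp]
      have hzw : B z w' ≠ 0 := by
        simpa [hw', C.symm z p, hpz, hzg] using hw
      refine ⟨g₀ + w' - Q w' • p, ?_, ?_, ?_⟩
      · rw [sub_eq_add_neg, ← neg_smul, C.add, C.add, C.smul, hQp, hQg, map_add, LinearMap.add_apply,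
          map_smul (B g₀), map_smul (B w'), C.symm g₀ p, hpg, C.symm w' p, hpw, hgw]
        simp only [smul_eq_mul]
        ring
      · simp [C.self_zero hQp, hpg, hpw]
      · simpa [hzg, C.symm z p, hpz] using hzw
    · exact ⟨g₀, hQg, hpg, hzg⟩
  have Fz₂ : ∀ y, B z₂ y = 0 → sGL Q B z₂ y ∈ G := fun y hy =>
    full_move D hG hQp hQg hpg Fp Fg hz₂ (by rw [hpz₂]; exact one_ne_zero) hy
  exact full_move D hG hz₂ hQp (by rw [C.symm, hpz₂]) Fz₂ Fp hz (by rwa [C.symm]) hza

/-- Every group of isometries containing the root elements and moving a line contains `Ω`. -/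
theorem root_top_le (D : Ext Q B h) (hG : Over Q h G) (hr : (finrank F K).Prime)
    (hd : 5 ≤ finrank K 𝕍 ∨ 3 ≤ finrank F K) : Root Q B ⊤ ≤ G := by
  classical
  have : Finite F := Finite.of_injective _ (algebraMap F K).injective
  obtain ⟨p, hp0, hp, hseed⟩ := exists_seed D hG hr hd
  obtain ⟨v, hv0, hv, hgood⟩ : ∃ v, v ≠ 0 ∧ h v v = 0 ∧ Good Q B h G v := by
    rcases hseed with ⟨e, -, hpe, hind, hmem⟩ | ⟨γ, hγ, h3, hmem⟩
    · have he : e ∈ sig G D hp := ⟨D.B_of_h hpe, hmem⟩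
      rcases Nat.lt_or_ge (finrank K 𝕍) 5 with h4 | h5
      · have h3 := hd.resolve_left (by omega)
        obtain ⟨γ, hγ⟩ : ∃ γ : K, γ ∉ (⊥ : Subalgebra F K) := by
          by_contra hc
          push Not at hc
          have h1 : (⊤ : Subalgebra F K) ≤ ⊥ := fun x _ => hc x
          have := Subalgebra.bot_eq_top_iff_finrank_eq_one.1 (le_antisymm bot_le h1)
          omega
        exact good_of_plane D hG hr h3 hp0 hp hγ (sig_line D hG he hpe hind γ).2
      · exact ⟨p, hp0, hp, good_of_orth D hG h5 hp0 hp he hpe hind⟩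
    · exact good_of_plane D hG hr h3 hp0 hp hγ hmem
  exact root_top_of_good D hG hr hp0 hp hv0 hv hgood

end Finite

end Cfsg.Lib.Linear.OrthExt
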