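import Cfsg.Agent.Lib.Linear.OrthExt.Four
import Cfsg.Agent.Lib.Linear.SymplecticMax

/-!
# The normaliser of an extension field is maximal in `Ω`

A field subalgebra of prime degree whose elements are self-adjoint for the polar form: its
normaliser meets `Ω` in a maximal subgroup, in `K`-dimension at least four.
-/

set_option autoImplicit false

namespace Cfsg.Lib.Linear.OrthExt

open Module
open scoped Matrix commutatorElement
open Cfsg.Lib.Linear.Orth

section Roots

variable {ι : Type} [Fintype ι] [DecidableEq ι] {F K : Type*} [Field F] [Field K] [Algebra F K]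
  [Module K (ι → F)] [IsScalarTower F K (ι → F)]
  {Q : (ι → F) → F} {B : LinearMap.BilinForm F (ι → F)} {h : LinearMap.BilinForm K (ι → F)}

local notation "𝕍" => (ι → F)

theorem rt_add (D : Ext Q B h) {p a b : 𝕍} (hp : h p p = 0) (ha : h p a = 0) (hb : h p b = 0)
    (x : 𝕍) : rt h p a (rt h p b x) = rt h p (a + b) x := by
  have h1 : h (rt h p b x) p = h x p := by simp [rt, hp, D.symm b p, hb]
  have h2 : h (rt h p b x) a = h x a + h x p * h b a := by simp [rt, ha]
  rw [rt, h1, h2]
  simp only [rt, map_add, LinearMap.add_apply, D.symm b a]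
  match_scalars <;> field_simp [D.two'] <;> ring

theorem rt_zero (p x : 𝕍) : rt h p 0 x = x := by simp [rt]

/-- The root element as a linear automorphism. -/
def rtEquiv (D : Ext Q B h) {p w : 𝕍} (hp : h p p = 0) (hw : h p w = 0) : 𝕍 ≃ₗ[K] 𝕍 where
  toFun := rt h p w
  map_add' x y := by
    simp only [rt, map_add, LinearMap.add_apply]
    module
  map_smul' k x := rt_smul p w k x
  invFun := rt h p (-w)
  left_inv := rt_neg D hp hw
  right_inv x := by
    have := rt_neg D hp (show h p (-w) = 0 by rw [map_neg, hw, neg_zero]) x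
    rwa [neg_neg] at this

theorem rtEquiv_apply (D : Ext Q B h) {p w : 𝕍} (hp : h p p = 0) (hw : h p w = 0) (x : 𝕍) :
    rtEquiv D hp hw x = rt h p w x := rfl

theorem rt_isom (D : Ext Q B h) {p w : 𝕍} (hp : h p p = 0) (hw : h p w = 0) (x y : 𝕍) :
    h (rt h p w x) (rt h p w y) = h x y := by
  simp only [rt, map_add, map_sub, map_smul, LinearMap.add_apply, LinearMap.sub_apply,
    LinearMap.smul_apply, smul_eq_mul, hp, hw, D.symm p y, D.symm w p, D.symm w y]
  field_simp [D.two']
  ring

end Roots

variable {ι : Type} [Fintype ι] [DecidableEq ι] {F : Type*} [Field F] [Fintype F]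

local notation "M" => Matrix ι ι F
local notation "𝕍" => (ι → F)

/-- The natural module over a subalgebra of matrices. -/
@[reducible] def moduleK (K : Subalgebra F M) : Module K 𝕍 :=
  { smul := fun s v => (s : M) *ᵥ v
    one_smul := fun v => Matrix.one_mulVec v
    mul_smul := fun s t v => (Matrix.mulVec_mulVec v (s : M) (t : M)).symm
    smul_zero := fun s => Matrix.mulVec_zero _
    smul_add := fun s v w => Matrix.mulVec_add _ v w
    add_smul := fun s t v => Matrix.add_mulVec _ _ v
    zero_smul := fun v => Matrix.zero_mulVec v }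

omit [Fintype F] in
theorem isField_of (K : Subalgebra F M) (hne : Nonempty ι)
    (hcomm : ∀ x ∈ K, ∀ y ∈ K, x * y = y * x)
    (hinv : ∀ x ∈ K, x ≠ 0 → ∃ y ∈ K, x * y = 1) : IsField K where
  exists_pair_ne := ⟨0, 1, fun h => by
    obtain ⟨i⟩ := hne
    have := congrFun (congrFun (congrArg Subtype.val h) i) i
    simp at this⟩
  mul_comm x y := Subtype.ext (hcomm _ x.2 _ y.2)
  mul_inv_cancel {x} hx := by
    obtain ⟨y, hy, h⟩ := hinv _ x.2 fun h => hx (Subtype.ext h)
    exact ⟨⟨y, hy⟩, Subtype.ext h⟩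

set_option synthInstance.maxHeartbeats 400000 in
set_option maxHeartbeats 3200000 in
/-- The normaliser of the field is maximal in `Ω`, also for a quadratic extension in dimension
eight of minus type. -/
theorem maximal' {Q : 𝕍 → F} {B : LinearMap.BilinForm F 𝕍} (C : Space Q B) (h2 : (2 : F) ≠ 0)
    {r : ℕ} (hr : r.Prime) (K : Subalgebra F M) (hK : Cfsg.Geo.IsFieldSubalgebra r K)
    (hsa : Cfsg.Geo.IsSelfAdjointFor (QuadraticMap.polar Q) K)
    (h4 : 4 * r ≤ Fintype.card ι)
    (hd : (5 * r ≤ Fintype.card ι ∨ 3 ≤ r) ∨ ¬ Cfsg.Geo.IsPlusTypeOn Q ⊤) :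
    Cfsg.Geo.IsMaximalIn (Cfsg.Geo.omegaGL Q) (Cfsg.Geo.subalgebraNormalizer K ⊓ Cfsg.Geo.omegaGL Q) := by
  classical
  have hr2 := hr.two_le
  have h5 : 5 ≤ Fintype.card ι := by omega
  have hne : Nonempty ι := Fintype.card_pos_iff.1 (by omega)
  letI : Field K := (isField_of K hne hK.comm hK.inv).toField
  letI : Module K 𝕍 := moduleK K
  haveI : IsScalarTower F K 𝕍 :=
    ⟨fun c k v => show (c • (k : M)) *ᵥ v = c • ((k : M) *ᵥ v) from Matrix.smul_mulVec c _ v⟩
  haveI : Finite K := inferInstance
  haveI : FiniteDimensional F K := inferInstance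
  haveI : FiniteDimensional K 𝕍 := Module.Finite.of_restrictScalars_finite F K _
  have hrK : finrank F K = r := hK.finrank_eq
  have hdim : r * finrank K 𝕍 = Fintype.card ι := by
    have h := Module.finrank_mul_finrank F K 𝕍
    rwa [hrK, Module.finrank_fintype_fun_eq_card] at h
  have hd4 : 4 ≤ finrank K 𝕍 := by
    by_contra hlt
    have : r * finrank K 𝕍 ≤ r * 3 := Nat.mul_le_mul_left r (by omega)
    omega
  have hd5 : (5 * r ≤ Fintype.card ι ∨ 3 ≤ r) → 5 ≤ finrank K 𝕍 ∨ 3 ≤ finrank F K := by
    intro hd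
    rcases hd with hd | hd
    · left
      by_contra hlt
      have : r * finrank K 𝕍 ≤ r * 4 := Nat.mul_le_mul_left r (by omega)
      omega
    · exact Or.inr (hrK ▸ hd)
  have hadj : ∀ (c : K) (x y : 𝕍), B (c • x) y = B x (c • y) := fun c x y => by
    rw [← C.polar, ← C.polar]
    exact hsa _ c.2 x y
  -- the form over the extension
  let φ : 𝕍 → 𝕍 → Module.Dual F K := fun x y =>
    (B.flip y) ∘ₗ (LinearMap.toSpanSingleton K 𝕍 x).restrictScalars F
  have hex : ∀ x y, ∃ a : K, ∀ k : K, Algebra.trace F K (k * a) = B (k • x) y := fun x y => by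
    refine ⟨((Algebra.traceForm F K).toDual (traceForm_nondegenerate F K)).symm (φ x y), fun k => ?_⟩
    have := LinearMap.BilinForm.apply_toDual_symm_apply (hB := traceForm_nondegenerate F K) (φ x y) k
    rw [Algebra.traceForm_apply, mul_comm] at this
    exact this
  choose hf hfs using hex
  let h : LinearMap.BilinForm K 𝕍 := LinearMap.mk₂ K hf
    (fun x x' y => ext_trace (F := F) fun k => by
      simp only [hfs, mul_add, smul_add, map_add, LinearMap.add_apply])
    (fun c x y => ext_trace (F := F) fun k => by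
      simp only [smul_eq_mul, ← mul_assoc, hfs, mul_smul])
    (fun x y y' => ext_trace (F := F) fun k => by simp only [hfs, mul_add, map_add])
    (fun c x y => ext_trace (F := F) fun k => by
      simp only [smul_eq_mul, ← mul_assoc, hfs]
      rw [← hadj, smul_smul, mul_comm c])
  have hhf : ∀ x y, h x y = hf x y := fun x y => rfl
  have hD : Ext Q B h := by
    refine ⟨C, h2, fun x y => ext_trace (F := F) fun k => ?_, fun x y => ?_, hd4⟩
    · rw [hhf, hhf, hfs, hfs, hadj, C.symm]
    · rw [hhf, ← one_mul (hf x y), hfs, one_smul]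
  set e := Symp.glEquiv ι F
  have hlin : ∀ (f : 𝕍 ≃ₗ[K] 𝕍), e.symm (f.restrictScalars F) ∈ Cfsg.Geo.subalgebraNormalizer K := by
    intro f
    set g := e.symm (f.restrictScalars F) with hg
    have hact : ∀ x, (g : M) *ᵥ x = f x := fun x => by
      rw [← Symp.glEquiv_apply]
      show e g x = _
      rw [hg, e.apply_symm_apply]
      rfl
    have hcomm : ∀ k ∈ K, (g : M) * k = k * (g : M) := fun k hk =>
      Matrix.toLin'.injective (LinearMap.ext fun x => by
        rw [Matrix.toLin'_apply, Matrix.toLin'_apply, ← Matrix.mulVec_mulVec,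
          ← Matrix.mulVec_mulVec, hact, hact]
        exact f.map_smul ⟨k, hk⟩ x)
    intro k
    refine ⟨fun hk => ?_, fun hk => ?_⟩
    · rw [hcomm k hk, mul_assoc, ← Units.val_mul, mul_inv_cancel, Units.val_one, mul_one]
      exact hk
    · have h := hcomm _ hk
      have e1 : k = ((g⁻¹ : GL ι F) : M) *
          ((g : M) * ((g : M) * k * ((g⁻¹ : GL ι F) : M))) := by
        rw [h, mul_assoc _ ((g⁻¹ : GL ι F) : M) (g : M), ← Units.val_mul g⁻¹ g,
          inv_mul_cancel, Units.val_one, mul_one, ← mul_assoc, ← Units.val_mul, inv_mul_cancel,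
          Units.val_one, one_mul]
      rw [e1, ← mul_assoc, ← Units.val_mul, inv_mul_cancel, Units.val_one, one_mul]
      exact hk
  have homega : Cfsg.Geo.omegaGL Q = ⁅isometryGroup F Q, isometryGroup F Q⁆ := by
    rw [Cfsg.Geo.omegaGL, Subgroup.map_subtype_commutator]
  have hgl : ∀ (f : 𝕍 ≃ₗ[K] 𝕍) x, (e.symm (f.restrictScalars F)).val *ᵥ x = f x := fun f x => by
    rw [← Symp.glEquiv_apply]
    show e (e.symm _) x = _
    rw [e.apply_symm_apply]
    rfl
  have hiso : ∀ f : 𝕍 ≃ₗ[K] 𝕍, (∀ x y, h (f x) (f y) = h x y) →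
      e.symm (f.restrictScalars F) ∈ isometryGroup F Q := fun f hf' => by
    refine mem_iso.2 fun x => ?_
    have h1 : B (f x) (f x) = B x x := by rw [hD.tr, hD.tr, hf']
    rw [C.self, C.self] at h1
    rw [hgl]
    exact mul_left_cancel₀ h2 h1
  have hroots : ∀ p w : 𝕍, h p p = 0 → h p w = 0 →
      ∃ X ∈ Cfsg.Geo.subalgebraNormalizer K ⊓ Cfsg.Geo.omegaGL Q, ∀ x, X.val *ᵥ x = rt h p w x := by
    intro p w hp hw
    refine ⟨e.symm ((rtEquiv hD hp hw).restrictScalars F), ⟨hlin _, ?_⟩, hgl _⟩
    rcases eq_or_ne p 0 with rfl | hp0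
    · have : e.symm ((rtEquiv hD hp hw).restrictScalars F) = 1 := gl_ext fun x => by
        rw [hgl, rtEquiv_apply, rt, Units.val_one, Matrix.one_mulVec]
        simp
      show e.symm _ ∈ Cfsg.Geo.omegaGL Q
      rw [this]
      exact one_mem _
    obtain ⟨f, n, hff, hpf, -, -, -⟩ := hD.exists_frame hp0 hp
    have hfp : h f p = 1 := by rw [hD.symm, hpf]
    obtain ⟨u, hu⟩ : ∃ u : 𝕍, u = -(2⁻¹ : K) • (w - h f w • p) := ⟨_, rfl⟩
    have hpu : h p u = 0 := by simp [hu, hp, hw]
    have hfu : h f u = 0 := by simp [hu, hfp]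
    have hnu : h p (-u) = 0 := by rw [map_neg, hpu, neg_zero]
    let T₀ : 𝕍 →ₗ[K] 𝕍 := LinearMap.id - (2 : K) • (h.flip f).smulRight p -
      (2 : K) • (h.flip p).smulRight f
    have hT : ∀ x, T₀ x = x - (2 * h x f) • p - (2 * h x p) • f := fun x => by
      simp [T₀, smul_smul]
    have hTT : ∀ x, T₀ (T₀ x) = x := fun x => by
      have e1 : h (T₀ x) f = -h x f := by simp [hT, hff, hpf]; ring
      have e2 : h (T₀ x) p = -h x p := by simp [hT, hp, hfp]; ring
      rw [hT, e1, e2, hT]
      module
    let T : 𝕍 ≃ₗ[K] 𝕍 := LinearEquiv.ofLinear T₀ T₀ (LinearMap.ext hTT) (LinearMap.ext hTT)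
    have hTiso : ∀ x y, h (T x) (T y) = h x y := fun x y => by
      show h (T₀ x) (T₀ y) = _
      simp only [hT, map_sub, map_smul, LinearMap.sub_apply, LinearMap.smul_apply, smul_eq_mul, hp,
        hff, hpf, hfp, hD.symm p y, hD.symm f y]
      ring
    have hconj : ∀ x, T₀ (rt h p u (T₀ x)) = rt h p (-u) x := fun x => by
      have e1 : h (T₀ x) p = -h x p := by simp [hT, hp, hfp]; ring
      have e2 : h (T₀ x) u = h x u := by simp [hT, hpu, hfu]
      have e3 : T₀ u = u := by rw [hT, hD.symm u f, hfu, hD.symm u p, hpu]; simp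
      have e4 : T₀ p = -p := by rw [hT, hpf, hp, two_mul]; module
      rw [rt, e1, e2, map_sub, map_add, map_smul, map_smul, hTT, e3, e4, rt, map_neg, LinearMap.map_neg₂,
        map_neg, neg_neg]
      module
    have hmem := Subgroup.commutator_mem_commutator
      (hiso T hTiso) (hiso (rtEquiv hD hp hpu) (rt_isom hD hp hpu))
    show e.symm ((rtEquiv hD hp hw).restrictScalars F) ∈ Cfsg.Geo.omegaGL Q
    rw [homega]
    suffices heq : e.symm ((rtEquiv hD hp hw).restrictScalars F) =
        ⁅e.symm (T.restrictScalars F), e.symm ((rtEquiv hD hp hpu).restrictScalars F)⁆ by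
      rw [heq]; exact hmem
    rw [commutatorElement_def]
    refine eq_mul_inv_of_mul_eq (eq_mul_inv_of_mul_eq (gl_ext fun x => ?_))
    simp only [mul_act, hgl, rtEquiv_apply]
    show rt h p w (rt h p u (T₀ x)) = T₀ (rt h p u x)
    rw [show rt h p u x = rt h p u (T₀ (T₀ x)) by rw [hTT], hconj (T₀ x), rt_add hD hp hw hpu]
    have e5 : w + u = -u + h f w • p := by
      rw [hu]
      match_scalars <;> field_simp [hD.two'] <;> ring
    rw [e5]
    simp only [rt, map_add, map_smul, LinearMap.add_apply, LinearMap.smul_apply, smul_eq_mul, hp,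
      hnu, hD.symm (-u) p]
    module
  refine ⟨lt_of_le_of_ne inf_le_right fun heq => ?_, fun L hL hL' => ?_⟩
  · -- a Siegel element which moves a line
    obtain ⟨p, -, hp0, hp⟩ := hD.exists_singular (⊤ : Submodule K 𝕍) (by rw [finrank_top]; omega)
    obtain ⟨f, n, hff, hpf, hpn, hfn, hnn⟩ := hD.exists_frame hp0 hp
    obtain ⟨δ, hδ, hδ0⟩ := (Submodule.ne_bot_iff _).1
      (show LinearMap.ker (Algebra.trace F K) ≠ ⊥ from fun e0 => by
        have h1 := (Algebra.trace F K).finrank_range_add_finrank_ker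
        rw [e0, finrank_bot, LinearMap.range_eq_top.2 (Algebra.trace_surjective F K), finrank_top,
          finrank_self, hrK] at h1
        omega)
    rw [LinearMap.mem_ker] at hδ
    obtain ⟨k, hk⟩ := exists_trace_mul_ne (F := F) hδ0
    set z := δ • f + n
    set y := δ • f
    have hQp := hD.Q_sing hp
    have hpy : B p y = 0 := by rw [hD.smul_right, hpf, mul_one, hδ]
    set g := sGL Q B p y
    have hg : g ∈ Cfsg.Geo.omegaGL Q := homega ▸ sGL_mem_comm C h5 hQp hpy
    rw [← heq] at hg
    have hQy : Q y = 0 := hD.Q_smul hff δ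
    have hgact : ∀ v, (g : M) *ᵥ v = v + B p v • y - B y v • p := fun v => by
      rw [sGL_act C hQp hpy, hQy, zero_mul, add_zero]
    let a : K := ⟨_, (hg.1 k).1 k.2⟩
    have ha : (g : M) *ᵥ (k • z) = a • ((g : M) *ᵥ z) := by
      show (g : M) *ᵥ ((k : M) *ᵥ z) =
        ((g : M) * (k : M) * ((g⁻¹ : GL ι F) : M)) *ᵥ ((g : M) *ᵥ z)
      rw [Matrix.mulVec_mulVec, Matrix.mulVec_mulVec, mul_assoc _ _ (g : M), ← Units.val_mul,
        inv_mul_cancel, Units.val_one, mul_one]
    have hpz : h p z = δ := by simp [z, hpf, hpn]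
    have h1 : B p z = 0 := by rw [hD.tr, hpz, hδ]
    have h2 : B y z = 0 := hD.B_of_h (by simp [y, z, hff, hfn])
    have h3 : B y (k • z) = 0 := hD.B_of_h (by simp [y, z, hff, hfn])
    rw [hgact, hgact, h1, h2, h3, zero_smul, zero_smul, add_zero, sub_zero, sub_zero] at ha
    have h4 := congrArg (h n) ha
    simp only [z, y, map_add, map_smul, LinearMap.map_smul_of_tower, hD.symm n f, hfn, smul_eq_mul,
      mul_zero, smul_zero, add_zero, zero_add] at h4
    have hka := mul_right_cancel₀ hnn h4
    rw [← hka] at ha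
    rcases smul_eq_zero.1 (add_eq_left.1 ha) with h0 | h0
    · exact hk (by rwa [hD.smul_right, hpz] at h0)
    · rcases smul_eq_zero.1 h0 with h0 | h0
      · exact hδ0 h0
      · rw [h0, map_zero] at hpf
        exact zero_ne_one hpf
  · by_cases hnot : L ≤ Cfsg.Geo.subalgebraNormalizer K
    · exact Or.inl (le_antisymm (le_inf hnot hL') hL)
    right
    refine le_antisymm hL' ?_
    have hLiso : L ≤ isometryGroup F Q := hL'.trans (by
      rw [homega]
      exact Subgroup.commutator_le_self _)
    have hG : Over Q h L := by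
      refine ⟨hLiso, fun p w hp hw => ?_, ?_⟩
      · obtain ⟨X, hX, hXa⟩ := hroots p w hp hw
        exact ⟨X, hL hX, hXa⟩
      · obtain ⟨g, hg, hgN⟩ := SetLike.not_le_iff_exists.1 hnot
        refine ⟨g, hg, ?_⟩
        by_contra hc
        push Not at hc
        refine hgN ?_
        have hin : ∀ k ∈ K, (g : M) * k * ((g⁻¹ : GL ι F) : M) ∈ K := by
          intro k hk
          set c : M := (g : M) * k * ((g⁻¹ : GL ι F) : M)
          have hline : ∀ w : 𝕍, ∃ a : K, c *ᵥ w = a • w := by
            intro w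
            obtain ⟨a, ha⟩ := Submodule.mem_span_singleton.1
              (hc (((g⁻¹ : GL ι F) : M) *ᵥ w) ⟨k, hk⟩)
            refine ⟨a, ?_⟩
            rw [act_inv] at ha
            rw [ha]
            show c *ᵥ w = (g : M) *ᵥ (k *ᵥ (((g⁻¹ : GL ι F) : M) *ᵥ w))
            rw [Matrix.mulVec_mulVec, Matrix.mulVec_mulVec]
          obtain ⟨w₁, hw₁⟩ : ∃ w₁ : 𝕍, w₁ ≠ 0 := exists_ne 0
          obtain ⟨a₁, ha₁⟩ := hline w₁
          have hout : ∀ w, w ∉ K ∙ w₁ → c *ᵥ w = a₁ • w := by
            intro w hw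
            obtain ⟨a, ha⟩ := hline w
            obtain ⟨b, hb⟩ := hline (w₁ + w)
            rw [Matrix.mulVec_add, ha₁, ha, smul_add, ← sub_eq_zero,
              add_sub_add_comm, ← sub_smul, ← sub_smul] at hb
            have h2 : a - b = 0 := by
              by_contra h
              refine hw (Submodule.mem_span_singleton.2 ⟨-((a - b)⁻¹ * (a₁ - b)), ?_⟩)
              rw [neg_smul, mul_smul, eq_neg_of_add_eq_zero_left hb, smul_neg, neg_neg, smul_smul,
                inv_mul_cancel₀ h, one_smul]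
            rw [h2, zero_smul, add_zero] at hb
            have h1 := (smul_eq_zero.1 hb).resolve_right hw₁
            rw [ha, sub_eq_zero.1 h1, sub_eq_zero.1 h2]
          have hall : ∀ w, c *ᵥ w = (a₁ : M) *ᵥ w := by
            intro w
            show c *ᵥ w = a₁ • w
            by_cases hw : w ∈ K ∙ w₁
            · obtain ⟨w₂, hw₂⟩ : ∃ w₂, w₂ ∉ K ∙ w₁ := by
                by_contra hcon
                push Not at hcon
                have h1 := Submodule.finrank_mono (show (⊤ : Submodule K 𝕍) ≤ K ∙ w₁ from fun v _ => hcon v)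
                rw [finrank_top, finrank_span_singleton hw₁] at h1
                omega
              have hsum : w + w₂ ∉ K ∙ w₁ := fun h => hw₂ (by simpa using Submodule.sub_mem _ h hw)
              have := hout _ hsum
              rwa [Matrix.mulVec_add, hout _ hw₂, smul_add, add_left_inj] at this
            · exact hout w hw
          have : c = (a₁ : M) := Matrix.toLin'.injective (LinearMap.ext fun w => by
            rw [Matrix.toLin'_apply, Matrix.toLin'_apply, hall])
          exact this ▸ a₁.2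
        intro k
        refine ⟨hin k, fun hk => ?_⟩
        let Φ : K → K := fun a => ⟨_, hin a a.2⟩
        have hΦ : Function.Injective Φ := fun a b h => Subtype.ext (by
          have h' : (g : M) * (a : M) * ((g⁻¹ : GL ι F) : M) =
            (g : M) * (b : M) * ((g⁻¹ : GL ι F) : M) := congrArg Subtype.val h
          exact (Units.mul_right_inj g).1 ((Units.mul_left_inj g⁻¹).1 h'))
        obtain ⟨a, ha⟩ := Finite.surjective_of_injective hΦ ⟨_, hk⟩
        have h' : (g : M) * (a : M) * ((g⁻¹ : GL ι F) : M) =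
          (g : M) * k * ((g⁻¹ : GL ι F) : M) := congrArg Subtype.val ha
        have : (a : M) = k := (Units.mul_right_inj g).1 ((Units.mul_left_inj g⁻¹).1 h')
        exact this ▸ a.2
    rw [omegaGL_eq C h5]
    by_cases hbig : 5 * r ≤ Fintype.card ι ∨ 3 ≤ r
    · exact root_top_le hD hG (hrK ▸ hr) (hd5 hbig)
    have hm := hd.resolve_left hbig
    push Not at hbig
    have hr2' : r = 2 := by omega
    have hd4' : finrank K 𝕍 = 4 := by
      subst hr2'
      omega
    refine root_top_le_four hD hG (hrK.trans hr2') hd4' fun p e hp0 hp he hpe => ?_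
    by_contra hind
    set U := Submodule.span K ({p, e} : Set 𝕍) with hU
    have hU2 : 2 ≤ finrank K U := by
      have hlt : K ∙ p < U := lt_of_le_of_ne (Submodule.span_mono (by simp)) fun heq =>
        hind (heq ▸ Submodule.subset_span (by simp))
      have := Submodule.finrank_lt_finrank_of_lt hlt
      rw [finrank_span_singleton hp0] at this
      omega
    have hts : ∀ x ∈ U.restrictScalars F, Q x = 0 := fun x hx => by
      obtain ⟨a, b, rfl⟩ := Submodule.mem_span_pair.1 hx
      exact hD.Q_sing (by simp [hp, he, hpe, hD.symm e p])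
    have hdim' : 4 ≤ finrank F (U.restrictScalars F) := by
      rw [show finrank F (U.restrictScalars F) = finrank F K * finrank K U from
        (Module.finrank_mul_finrank F K U).symm, hrK, hr2']
      omega
    have hb := ts_bound C hts
    refine hm ⟨U.restrictScalars F, le_top, fun x hx => hts x hx, ?_⟩
    rw [finrank_top, finrank_fintype_fun_eq_card]
    have := hdim
    subst hr2'
    omega

/-- The normaliser of the field is maximal in `Ω`. -/
theorem maximal {Q : 𝕍 → F} {B : LinearMap.BilinForm F 𝕍} (C : Space Q B) (h2 : (2 : F) ≠ 0)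
    {r : ℕ} (hr : r.Prime) (K : Subalgebra F M) (hK : Cfsg.Geo.IsFieldSubalgebra r K)
    (hsa : Cfsg.Geo.IsSelfAdjointFor (QuadraticMap.polar Q) K)
    (h4 : 4 * r ≤ Fintype.card ι) (hd : 5 * r ≤ Fintype.card ι ∨ 3 ≤ r) :
    Cfsg.Geo.IsMaximalIn (Cfsg.Geo.omegaGL Q) (Cfsg.Geo.subalgebraNormalizer K ⊓ Cfsg.Geo.omegaGL Q) :=
  maximal' C h2 hr K hK hsa h4 (Or.inl hd)

end Cfsg.Lib.Linear.OrthExt
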