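import Cfsg.Agent.Lib.Linear.OrthExt.Basic

/-!
# An element moving a singular line in rank one

Among the singular lines `P` and elements `g` with `g P ≠ P`, one with the largest intersection
`P ∩ g P` has `g P` orthogonal to `P` and the intersection a hyperplane of `P`; this gives an
element which moves a singular line in rank one.
-/

set_option autoImplicit false

namespace Cfsg.Lib.Linear.OrthExt

open Module
open scoped Matrix
open Cfsg.Lib.Linear.Orth

variable {ι : Type} [Fintype ι] [DecidableEq ι] {F K : Type*} [Field F] [Field K] [Algebra F K]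
  [Module K (ι → F)] [IsScalarTower F K (ι → F)]
  {Q : (ι → F) → F} {B : LinearMap.BilinForm F (ι → F)} {h : LinearMap.BilinForm K (ι → F)}
  {G : Subgroup (GL ι F)}

local notation "𝕍" => (ι → F)

/-- The Chevalley–Warning theorem for maps of degree at most two. -/
theorem exists_common_zero {F Z : Type*} [Field F] [Finite F] [AddCommGroup Z] [Module F Z]
    [FiniteDimensional F Z] {n : ℕ} (L : Fin n → Z →ₗ[F] F) (C : Fin n → LinearMap.BilinForm F Z)
    (hn : 2 * n < finrank F Z) : ∃ z, z ≠ 0 ∧ ∀ i, L i z + C i z z = 0 := by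
  classical
  have := Fintype.ofFinite F
  obtain ⟨p, hp⟩ := CharP.exists F
  have hpp : p.Prime := CharP.char_is_prime F p
  let b := Module.finBasis F Z
  let f : Fin n → MvPolynomial (Fin (finrank F Z)) F := fun i =>
    (∑ a, MvPolynomial.C (L i (b a)) * MvPolynomial.X a) +
      ∑ a, ∑ c, MvPolynomial.C (C i (b a) (b c)) * MvPolynomial.X a * MvPolynomial.X c
  have hev : ∀ x i, MvPolynomial.eval x (f i) =
      L i (∑ a, x a • b a) + C i (∑ a, x a • b a) (∑ a, x a • b a) := by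
    intro x i
    simp only [f, map_add, map_sum, map_mul, map_smul, MvPolynomial.eval_C, MvPolynomial.eval_X,
      LinearMap.sum_apply, LinearMap.smul_apply, smul_eq_mul, Finset.mul_sum]
    congr 1
    · exact Finset.sum_congr rfl fun a _ => mul_comm _ _
    · conv_rhs => rw [Finset.sum_comm]
      exact Finset.sum_congr rfl fun a _ => Finset.sum_congr rfl fun c _ => by ring
  have hdeg : ∀ i, (f i).totalDegree ≤ 2 := fun i => by
    refine (MvPolynomial.totalDegree_add _ _).trans (max_le ?_ ?_)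
    · refine MvPolynomial.totalDegree_finsetSum_le fun a _ => ?_
      refine (MvPolynomial.totalDegree_mul _ _).trans ?_
      rw [MvPolynomial.totalDegree_C, MvPolynomial.totalDegree_X]
      omega
    · refine MvPolynomial.totalDegree_finsetSum_le fun a _ => ?_
      refine MvPolynomial.totalDegree_finsetSum_le fun c _ => ?_
      refine (MvPolynomial.totalDegree_mul _ _).trans ?_
      have := MvPolynomial.totalDegree_mul (MvPolynomial.C (C i (b a) (b c)))
        (MvPolynomial.X a : MvPolynomial (Fin (finrank F Z)) F)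
      rw [MvPolynomial.totalDegree_C, MvPolynomial.totalDegree_X] at this
      rw [MvPolynomial.totalDegree_X]
      omega
  have hsum : (∑ i, (f i).totalDegree) < Fintype.card (Fin (finrank F Z)) := by
    rw [Fintype.card_fin]
    refine lt_of_le_of_lt (Finset.sum_le_sum fun i _ => hdeg i) ?_
    simp only [Finset.sum_const, Finset.card_univ, Fintype.card_fin, smul_eq_mul]
    omega
  have hdvd := char_dvd_card_solutions_of_fintype_sum_lt p hsum
  have hdvd : p ∣ Nat.card {x : Fin (finrank F Z) → F // ∀ i, MvPolynomial.eval x (f i) = 0} := by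
    rw [@Nat.card_eq_fintype_card _ (_)]
    exact hdvd
  let x0 : {x : Fin (finrank F Z) → F // ∀ i, MvPolynomial.eval x (f i) = 0} :=
    ⟨0, fun i => by rw [hev]; simp⟩
  have : Nonempty {x : Fin (finrank F Z) → F // ∀ i, MvPolynomial.eval x (f i) = 0} := ⟨x0⟩
  have hlt := lt_of_lt_of_le hpp.one_lt (Nat.le_of_dvd Nat.card_pos hdvd)
  have := Finite.one_lt_card_iff_nontrivial.1 hlt
  obtain ⟨⟨x, hx⟩, hne⟩ := exists_ne x0
  refine ⟨∑ a, x a • b a, fun e => hne (Subtype.ext (funext fun a => ?_)), fun i => ?_⟩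
  · exact Fintype.linearIndependent_iff.1 b.linearIndependent x e a
  · rw [← hev, hx]

variable (K) in
/-- The line of a vector. -/
def kl (p : 𝕍) : Submodule F 𝕍 := (K ∙ p).restrictScalars F

variable (K) in
/-- The image of the line of a vector. -/
def img (g : GL ι F) (p : 𝕍) : Submodule F 𝕍 := (kl K p).map (ac g : 𝕍 →ₗ[F] 𝕍)

theorem mem_kl {p x : 𝕍} : x ∈ kl K p ↔ ∃ k : K, k • p = x := by
  rw [kl, Submodule.restrictScalars_mem, Submodule.mem_span_singleton]

theorem smul_mem_kl (k : K) (p : 𝕍) : k • p ∈ kl (F := F) K p := mem_kl.2 ⟨k, rfl⟩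

theorem mem_img {g : GL ι F} {p x : 𝕍} : x ∈ img K g p ↔ ∃ k : K, g.val *ᵥ (k • p) = x := by
  constructor
  · rintro ⟨y, hy, rfl⟩
    obtain ⟨k, rfl⟩ := mem_kl.1 hy
    exact ⟨k, rfl⟩
  · rintro ⟨k, rfl⟩
    exact ⟨_, smul_mem_kl k p, rfl⟩

theorem rt_fix {p w y : 𝕍} (h1 : h y p = 0) (h2 : h y w = 0) : rt h p w y = y := by
  simp [rt, h1, h2]

theorem rt_perp {p w y : 𝕍} (h1 : h y p = 0) : rt h p w y = y - h y w • p := by
  simp [rt, h1]

variable (h G) in
/-- A line with an element moving it. -/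
structure Conf (g : GL ι F) (p : 𝕍) : Prop where
  mem : g ∈ G
  ne0 : p ≠ 0
  sing : h p p = 0
  moved : img K g p ≠ kl K p

variable (K) in
/-- The intersection with the image. -/
noncomputable def inter (g : GL ι F) (p : 𝕍) : ℕ := finrank F ↥(kl K p ⊓ img K g p)

variable (h G) in
/-- A line with the largest intersection. -/
structure Top (g : GL ι F) (p : 𝕍) : Prop where
  conf : Conf h G g p
  pos : 0 < inter K g p
  max : ∀ g' p', Conf h G g' p' → inter K g' p' ≤ inter K g p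

section Finite

variable [Finite K] [FiniteDimensional F K] [FiniteDimensional K (ι → F)]

theorem finrank_kl {p : 𝕍} (hp : p ≠ 0) : finrank F (kl (F := F) K p) = finrank F K := by
  rw [kl]
  have := (Module.finrank_mul_finrank F K (K ∙ p : Submodule K 𝕍)).symm
  rwa [finrank_span_singleton hp, mul_one] at this

theorem finrank_img (g : GL ι F) {p : 𝕍} (hp : p ≠ 0) :
    finrank F (img (F := F) K g p) = finrank F K := by
  rw [img, LinearEquiv.finrank_map_eq, finrank_kl hp]

theorem Conf.not_le {g : GL ι F} {p : 𝕍} (hc : Conf h G g p) : ¬ img K g p ≤ kl K p := fun hle =>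
  hc.moved (Submodule.eq_of_le_of_finrank_le hle (by rw [finrank_img _ hc.ne0, finrank_kl hc.ne0]))

theorem img_isotropic (D : Ext Q B h) (hG : Over Q h G) {g : GL ι F} (hg : g ∈ G) {p : 𝕍}
    (hp : h p p = 0) {x y : 𝕍} (hx : x ∈ img K g p) (hy : y ∈ img K g p) : B x y = 0 := by
  obtain ⟨a, rfl⟩ := mem_img.1 hx
  obtain ⟨b, rfl⟩ := mem_img.1 hy
  rw [D.space.B_act (hG.le hg), D.smul_left, map_smul, hp, smul_zero, mul_zero, map_zero]

/-- A root element moving the image of a line and fixing a given vector of it. -/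
theorem push (D : Ext Q B h) (hG : Over Q h G) {g : GL ι F} {u p x0 x : 𝕍} (hu : u ≠ 0)
    (hp : h p p = 0) (hx0 : h x0 p = 0) (hx : x ∈ img K g u) (hxp : h x p ≠ 0) :
    ∃ X ∈ G, X.val *ᵥ x0 = x0 ∧ (∀ k : K, X.val *ᵥ (k • p) = k • p) ∧
      ∃ y ∈ img K g u, X.val *ᵥ y ∉ img K g u := by
  by_contra hc
  push Not at hc
  set S := perp h p x0
  have hle : S.restrictScalars F ≤ img K g u ⊔ kl K p := by
    intro w hw
    have hw' : (h x p)⁻¹ • w ∈ S := S.smul_mem _ hw
    obtain ⟨h1, h2⟩ := mem_perp.1 hw'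
    obtain ⟨X, hX, hXa⟩ := hG.roots p _ hp h1
    have h3 := hc X hX (by rw [hXa, rt_fix hx0 h2])
      (fun k => by rw [hXa, rt_fix (by simp [hp]) (by rw [LinearMap.map_smul₂, h1, smul_zero])]) x hx
    rw [hXa, rt, smul_smul, mul_inv_cancel₀ hxp, one_smul] at h3
    set co := h x ((h x p)⁻¹ • w) + 2⁻¹ * h ((h x p)⁻¹ • w) ((h x p)⁻¹ • w) * h x p
    rw [show w = (x + w - co • p) - x + co • p by abel]
    exact Submodule.add_mem_sup (Submodule.sub_mem _ h3 hx) (smul_mem_kl co p)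
  have h1 : finrank K 𝕍 ≤ finrank K S + 2 := D.finrank_perp p x0
  have h2 := D.dim
  have hfS : finrank F (S.restrictScalars F) = finrank F K * finrank K S :=
    (Module.finrank_mul_finrank F K S).symm
  have hsup : finrank F ↥(img K g u ⊔ kl K p) ≤ finrank F K + finrank F K := by
    refine (Submodule.finrank_add_le_finrank_add_finrank _ _).trans ?_
    rw [finrank_img g hu]
    refine Nat.add_le_add_left ?_ _
    rcases eq_or_ne p 0 with rfl | hp0
    · rw [kl, Submodule.span_zero_singleton, Submodule.restrictScalars_bot, finrank_bot]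
      exact Nat.zero_le _
    · rw [finrank_kl hp0]
  have h3 : 2 ≤ finrank K S := by omega
  have heq := Submodule.eq_of_le_of_finrank_le hle (by
    rw [hfS]
    have := Nat.mul_le_mul_left (finrank F K) h3
    omega)
  have hxS : x ∈ S.restrictScalars F := heq ▸ Submodule.mem_sup_left hx
  exact hxp (by rw [D.symm]; exact (mem_perp.1 hxS).1)

/-- With a largest intersection, an element nearly preserving the image preserves it. -/
theorem Top.rigid {g : GL ι F} {p : 𝕍} (ht : Top h G g p) {M : GL ι F} (hM : M ∈ G)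
    {S : Submodule F 𝕍} (hS : S ≤ img K g p) (hMS : ∀ x ∈ S, M.val *ᵥ x ∈ img K g p)
    (hj : inter K g p < finrank F S) : ∀ x ∈ img K g p, M.val *ᵥ x ∈ img K g p := by
  by_contra hc
  push Not at hc
  obtain ⟨x, hx, hMx⟩ := hc
  set g' := g⁻¹ * M * g
  have hg' : g' ∈ G := G.mul_mem (G.mul_mem (G.inv_mem ht.conf.mem) hM) ht.conf.mem
  have hact : ∀ v, g'.val *ᵥ v = (g⁻¹ : GL ι F).val *ᵥ (M.val *ᵥ (g.val *ᵥ v)) := fun v => by
    rw [mul_act, mul_act]
  have hc' : Conf h G g' p := ⟨hg', ht.conf.ne0, ht.conf.sing, fun e => hMx (by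
    obtain ⟨k, rfl⟩ := mem_img.1 hx
    have : g'.val *ᵥ (k • p) ∈ kl K p := e ▸ mem_img.2 ⟨k, rfl⟩
    obtain ⟨k', hk'⟩ := mem_kl.1 this
    rw [hact] at hk'
    exact mem_img.2 ⟨k', by rw [hk', act_inv]⟩)⟩
  have hle : (S.map (ac M : 𝕍 →ₗ[F] 𝕍)).map (ac g⁻¹ : 𝕍 →ₗ[F] 𝕍) ≤ kl K p ⊓ img K g' p := by
    rintro _ ⟨_, ⟨y, hy, rfl⟩, rfl⟩
    obtain ⟨k, hk⟩ := mem_img.1 (hMS y hy)
    obtain ⟨l, hl⟩ := mem_img.1 (hS hy)
    refine ⟨mem_kl.2 ⟨k, ?_⟩, mem_img.2 ⟨l, ?_⟩⟩
    · show k • p = (g⁻¹ : GL ι F).val *ᵥ (M.val *ᵥ y)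
      rw [← hk, inv_act]
    · show g'.val *ᵥ (l • p) = (g⁻¹ : GL ι F).val *ᵥ (M.val *ᵥ y)
      rw [hact, hl]
  have h1 := Submodule.finrank_mono hle
  rw [LinearEquiv.finrank_map_eq, LinearEquiv.finrank_map_eq] at h1
  exact absurd (h1.trans (ht.max g' p hc')) (not_le.2 hj)

/-- Some line and its image meet. -/
theorem exists_top (D : Ext Q B h) (hG : Over Q h G) (hr : 2 ≤ finrank F K) :
    ∃ g p, Top h G g p := by
  classical
  obtain ⟨g, p, hc, hpos⟩ : ∃ g p, Conf h G g p ∧ 0 < inter K g p := by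
    have hmeet : ∀ {g' : GL ι F} {p : 𝕍} (x : 𝕍), Conf h G g' p → x ≠ 0 → x ∈ kl K p →
        x ∈ img K g' p → 0 < inter K g' p := by
      intro g' p x _ hx0 h1 h2
      refine Nat.pos_of_ne_zero fun e => hx0 ?_
      have : x ∈ kl K p ⊓ img K g' p := ⟨h1, h2⟩
      rwa [Submodule.finrank_eq_zero.1 e, Submodule.mem_bot] at this
    obtain ⟨g, hg, u, hu0, huu, k, hk⟩ := exists_moved D hG hr
    set z := g.val *ᵥ u with hz
    have hz0 : z ≠ 0 := act_ne_zero hu0
    rcases eq_or_ne (h z z) 0 with hzz | hzz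
    · obtain ⟨M, hM, hMz, hMl⟩ := exists_move D hG hz0 hzz hu0 huu
      have hc : Conf h G (M * g) u := ⟨G.mul_mem hM hg, hu0, huu, fun e => hk (by
        have : (M * g).val *ᵥ (k • u) ∈ kl K u := e ▸ mem_img.2 ⟨k, rfl⟩
        obtain ⟨a, ha⟩ := mem_kl.1 this
        rw [mul_act] at ha
        refine Submodule.mem_span_singleton.2 ⟨a, (ac M).injective ?_⟩
        show M.val *ᵥ (a • z) = M.val *ᵥ (g.val *ᵥ (k • u))
        rw [hMl, hMz, ha])⟩
      exact ⟨_, _, hc, hmeet u hc hu0 (mem_kl.2 ⟨1, one_smul K u⟩)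
        (mem_img.2 ⟨1, by rw [one_smul, mul_act, hMz]⟩)⟩
    · set U := LinearMap.ker (h z) with hU
      have hUnd : ∀ a ∈ U, (∀ b ∈ U, h a b = 0) → a = 0 := fun a ha hab => D.sep fun b => by
        have hb : b - (h z b / h z z) • z ∈ U := by
          rw [hU, LinearMap.mem_ker, map_sub, map_smul, smul_eq_mul, div_mul_cancel₀ _ hzz, sub_self]
        have := hab _ hb
        rwa [map_sub, map_smul, D.symm a z, LinearMap.mem_ker.1 ha, smul_zero, sub_zero] at this
      obtain ⟨e, heU, he0, hee⟩ := D.exists_singular U (by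
        have : finrank K 𝕍 ≤ finrank K U + 1 := D.finrank_ker z
        have := D.dim
        omega)
      obtain ⟨p, hpU, hpp, k₁, hk₁⟩ :
          ∃ p ∈ U, h p p = 0 ∧ ∃ k₁ : K, h (g.val *ᵥ (k₁ • u)) p ≠ 0 := by
        by_contra hc
        push Not at hc
        set y := g.val *ᵥ (k • u)
        refine hk (Submodule.mem_span_singleton.2 ⟨h z y / h z z, (sub_eq_zero.1 ?_).symm⟩)
        have h1 : ∀ b ∈ U, h y b = 0 :=
          D.sing_span hUnd heU he0 hee (fun v hv hvv => hc v hv hvv k)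
        refine hUnd _ (LinearMap.mem_ker.2 (by
          rw [map_sub, map_smul, smul_eq_mul, div_mul_cancel₀ _ hzz, sub_self])) fun b hb => ?_
        rw [map_sub, LinearMap.sub_apply, map_smul, LinearMap.smul_apply, h1 b hb,
          LinearMap.mem_ker.1 hb, smul_zero, sub_zero]
      have hzp : h z p = 0 := hpU
      obtain ⟨X, hX, hXz, -, y, hy, hXy⟩ := push D hG hu0 hpp hzp (mem_img.2 ⟨k₁, rfl⟩) hk₁
      set g' := g⁻¹ * X * g
      have hact : ∀ v, g'.val *ᵥ v = (g⁻¹ : GL ι F).val *ᵥ (X.val *ᵥ (g.val *ᵥ v)) := fun v => by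
        rw [mul_act, mul_act]
      have hc : Conf h G g' u := ⟨G.mul_mem (G.mul_mem (G.inv_mem hg) hX) hg, hu0, huu, fun e => hXy (by
        obtain ⟨l, rfl⟩ := mem_img.1 hy
        have : g'.val *ᵥ (l • u) ∈ kl K u := e ▸ mem_img.2 ⟨l, rfl⟩
        obtain ⟨a, ha⟩ := mem_kl.1 this
        rw [hact] at ha
        exact mem_img.2 ⟨a, by rw [ha, act_inv]⟩)⟩
      exact ⟨_, _, hc, hmeet u hc hu0 (mem_kl.2 ⟨1, one_smul K u⟩)
        (mem_img.2 ⟨1, by rw [one_smul, hact, ← hz, hXz, hz, inv_act]⟩)⟩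
  let P : ℕ → Prop := fun j => ∃ g p, Conf h G g p ∧ inter K g p = j
  have hbound : ∀ g' p', Conf h G g' p' → inter K g' p' ≤ finrank F K := fun g' p' hc' =>
    (Submodule.finrank_mono inf_le_left).trans_eq (finrank_kl hc'.ne0)
  have hP : P (inter K g p) := ⟨g, p, hc, rfl⟩
  obtain ⟨g₁, p₁, hc₁, hj⟩ := Nat.findGreatest_spec (P := P) (hbound g p hc) hP
  exact ⟨g₁, p₁, hc₁, hj ▸ hpos.trans_le (Nat.le_findGreatest (hbound g p hc) hP),
    fun g' p' hc' => hj ▸ Nat.le_findGreatest (hbound g' p' hc') ⟨g', p', hc', rfl⟩⟩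

theorem Top.no_partial (D : Ext Q B h) (hG : Over Q h G) {g : GL ι F} {p : 𝕍} (ht : Top h G g p)
    {x0 x : 𝕍} (hx0 : x0 ∈ img K g p) (hx0p : h x0 p = 0) (hx0k : x0 ∉ kl K p)
    (hx : x ∈ img K g p) : h x p = 0 := by
  by_contra hxp
  obtain ⟨X, hX, hX0, hXp, y, hy, hXy⟩ := push D hG ht.conf.ne0 ht.conf.sing hx0p hx hxp
  set S := (kl K p ⊓ img K g p) ⊔ Submodule.span F {x0}
  refine hXy (ht.rigid hX (S := S) (sup_le inf_le_right
    ((Submodule.span_singleton_le_iff_mem _ _).2 hx0)) ?_ ?_ y hy)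
  · intro v hv
    obtain ⟨a, ha, b, hb, rfl⟩ := Submodule.mem_sup.1 hv
    obtain ⟨c, rfl⟩ := Submodule.mem_span_singleton.1 hb
    obtain ⟨l, rfl⟩ := mem_kl.1 ha.1
    rw [Matrix.mulVec_add, Matrix.mulVec_smul, hXp, hX0]
    exact Submodule.add_mem _ ha.2 (Submodule.smul_mem _ _ hx0)
  · exact Submodule.finrank_lt_finrank_of_lt (SetLike.lt_iff_le_and_exists.2
      ⟨le_sup_left, x0, Submodule.mem_sup_right (Submodule.mem_span_singleton_self x0),
        fun h' => hx0k h'.1⟩)

/-- A largest intersection with an orthogonal image. -/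
theorem exists_top_perp (D : Ext Q B h) (hG : Over Q h G) (hr : 2 ≤ finrank F K) :
    ∃ g p, Top h G g p ∧ ∀ x ∈ img K g p, h x p = 0 := by
  have : Finite F := Finite.of_injective _ (algebraMap F K).injective
  obtain ⟨g, p, ht⟩ := exists_top D hG hr
  by_cases hall : ∀ x ∈ img K g p, h x p = 0
  · exact ⟨g, p, ht, hall⟩
  push Not at hall
  obtain ⟨x0, hx0, hf0⟩ := hall
  set I := kl K p ⊓ img K g p with hI
  have hker : ∀ x ∈ img K g p, h x p = 0 → x ∈ I := fun x hx hxp =>
    ⟨by_contra fun hxk => hf0 (ht.no_partial D hG hx hxp hxk hx0), hx⟩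
  have hp := ht.conf.sing
  have hp0 := ht.conf.ne0
  obtain ⟨f, n, -, hpf, -, -, -⟩ := D.exists_frame hp0 hp
  set W := perp h p f
  obtain ⟨I', hI'⟩ := Submodule.exists_isCompl I
  set C := I' ⊓ img K g p
  have hIC : I ⊔ C = img K g p := by
    rw [← sup_inf_assoc_of_le _ (inf_le_right : I ≤ img K g p), hI'.sup_eq_top, top_inf_eq]
  have hC : finrank F C + inter K g p = finrank F K := by
    have h1 := Submodule.finrank_sup_add_finrank_inf_eq I C
    rw [hIC, show I ⊓ C = ⊥ from eq_bot_iff.2 ((inf_le_inf_left _ inf_le_left).trans hI'.inf_eq_bot.le),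
      finrank_bot, finrank_img g hp0] at h1
    show finrank F C + finrank F I = _
    omega
  let b := Module.finBasis F C
  let Wf := W.restrictScalars F
  have hW : 2 * finrank F K ≤ finrank F Wf := by
    rw [show finrank F Wf = finrank F K * finrank K W from (Module.finrank_mul_finrank F K W).symm,
      mul_comm 2]
    refine Nat.mul_le_mul_left _ ?_
    have h1 : finrank K 𝕍 ≤ finrank K W + 2 := D.finrank_perp p f
    have := D.dim
    omega
  let f0 := h x0 p
  let L : Fin (finrank F C) → Wf →ₗ[F] F := fun i => (B.flip (b i : 𝕍)) ∘ₗ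
    ((f0 • LinearMap.id - (h x0).smulRight p : 𝕍 →ₗ[K] 𝕍).restrictScalars F) ∘ₗ Wf.subtype
  let Cb : Fin (finrank F C) → LinearMap.BilinForm F Wf := fun i => LinearMap.mk₂ F
    (fun w w' => -B ((2⁻¹ * h (w : 𝕍) w' * f0) • p) (b i : 𝕍))
    (fun w₁ w₂ w' => by
      simp only [Submodule.coe_add, map_add, LinearMap.add_apply, mul_add, add_mul, add_smul, neg_add_rev]
      ring)
    (fun c w w' => by
      simp only [Submodule.coe_smul, LinearMap.map_smul_of_tower, LinearMap.smul_apply,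
        Algebra.mul_smul_comm, Algebra.smul_mul_assoc, smul_assoc, map_smul, smul_eq_mul]
      ring)
    (fun w w₁ w₂ => by
      simp only [Submodule.coe_add, map_add, LinearMap.add_apply, mul_add, add_mul, add_smul, neg_add_rev]
      ring)
    (fun c w w' => by
      simp only [Submodule.coe_smul, LinearMap.map_smul_of_tower, LinearMap.smul_apply,
        Algebra.mul_smul_comm, Algebra.smul_mul_assoc, smul_assoc, map_smul, smul_eq_mul]
      ring)
  obtain ⟨⟨w, hwW⟩, hw0', hsol⟩ := exists_common_zero L Cb (by have := ht.pos; omega)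
  have hw0 : w ≠ 0 := fun e => hw0' (Subtype.ext e)
  obtain ⟨hpw, hfw⟩ := mem_perp.1 hwW
  obtain ⟨X, hX, hXa⟩ := hG.roots p w hp hpw
  have hXp : ∀ k : K, X.val *ᵥ (k • p) = k • p := fun k => by
    rw [hXa, rt_fix (by simp [hp]) (by rw [map_smul, LinearMap.smul_apply, hpw, smul_zero])]
  have hmove : ∃ x ∈ img K g p, X.val *ᵥ x ∉ img K g p := by
    by_contra hc
    push Not at hc
    let Φ : img K g p →ₗ[F] 𝕍 :=
      (((h.flip p).smulRight w : 𝕍 →ₗ[K] 𝕍).restrictScalars F) ∘ₗ (img K g p).subtype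
    have hΦker : LinearMap.ker Φ = I.comap (img K g p).subtype := by
      ext x
      simp only [LinearMap.mem_ker, Submodule.mem_comap, Submodule.subtype_apply]
      show h (x : 𝕍) p • w = 0 ↔ _
      rw [smul_eq_zero, or_iff_left hw0]
      refine ⟨hker x x.2, fun hx => ?_⟩
      obtain ⟨k, hk⟩ := mem_kl.1 hx.1
      rw [← hk, map_smul, LinearMap.smul_apply, hp, smul_zero]
    have hdim := Φ.finrank_range_add_finrank_ker
    rw [hΦker, (Submodule.comapSubtypeEquivOfLe (inf_le_right : I ≤ img K g p)).finrank_eq,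
      finrank_img g hp0] at hdim
    have hdisj : LinearMap.range Φ ⊓ kl K p = ⊥ := eq_bot_iff.2 fun v ⟨⟨x, hx⟩, hv⟩ => by
      obtain ⟨k, hk⟩ := mem_kl.1 hv
      have h1 : h f v = 0 := by rw [← hx]; show h f (h (x : 𝕍) p • w) = 0; rw [map_smul, hfw, smul_zero]
      rw [← hk, map_smul, D.symm f p, hpf, smul_eq_mul, mul_one] at h1
      rw [← hk, h1, zero_smul]
      exact Submodule.zero_mem _
    have hle : LinearMap.range Φ ⊔ kl K p ≤ img K g p ⊔ kl K p := sup_le (by
      rintro _ ⟨x, rfl⟩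
      show h (x : 𝕍) p • w ∈ _
      have h3 := hc x x.2
      rw [hXa, rt] at h3
      set co := h (x : 𝕍) w + 2⁻¹ * h w w * h (x : 𝕍) p
      rw [show h (x : 𝕍) p • w = ((x : 𝕍) + h (x : 𝕍) p • w - co • p) - x + co • p by abel]
      exact Submodule.add_mem_sup (Submodule.sub_mem _ h3 x.2) (smul_mem_kl co p)) le_sup_right
    have h1 := Submodule.finrank_sup_add_finrank_inf_eq (LinearMap.range Φ) (kl K p)
    have h2 := Submodule.finrank_sup_add_finrank_inf_eq (img K g p) (kl K p)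
    rw [hdisj, finrank_bot, finrank_kl hp0] at h1
    rw [finrank_img g hp0, finrank_kl hp0, show img K g p ⊓ kl K p = I from inf_comm _ _] at h2
    have heq := Submodule.eq_of_le_of_finrank_le hle (by rw [← hI] at hdim; omega)
    have : x0 ∈ LinearMap.range Φ ⊔ kl K p := heq ▸ Submodule.mem_sup_left hx0
    obtain ⟨_, ⟨x, rfl⟩, c, hc', hsum⟩ := Submodule.mem_sup.1 this
    obtain ⟨k, rfl⟩ := mem_kl.1 hc'
    refine hf0 ?_
    rw [← hsum]
    show h (h (x : 𝕍) p • w + k • p) p = 0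
    simp [hp, D.symm w p, hpw]
  set g' := g⁻¹ * X * g with hg'def
  have hact : ∀ v, g'.val *ᵥ v = (g⁻¹ : GL ι F).val *ᵥ (X.val *ᵥ (g.val *ᵥ v)) := fun v => by
    rw [mul_act, mul_act]
  have hg : g ∈ G := ht.conf.mem
  have hg' : g' ∈ G := G.mul_mem (G.mul_mem (G.inv_mem hg) hX) hg
  have hc' : Conf h G g' p := ⟨hg', hp0, hp, fun e => by
    obtain ⟨y, hy, hXy⟩ := hmove
    obtain ⟨l, rfl⟩ := mem_img.1 hy
    have : g'.val *ᵥ (l • p) ∈ kl K p := e ▸ mem_img.2 ⟨l, rfl⟩
    obtain ⟨a, ha⟩ := mem_kl.1 this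
    rw [hact] at ha
    exact hXy (mem_img.2 ⟨a, by rw [ha, act_inv]⟩)⟩
  have hle : I.map (ac g⁻¹ : 𝕍 →ₗ[F] 𝕍) ≤ kl K p ⊓ img K g' p := by
    rintro _ ⟨y, ⟨hy1, hy2⟩, rfl⟩
    obtain ⟨l, hl⟩ := mem_img.1 hy2
    obtain ⟨a, ha⟩ := mem_kl.1 hy1
    have e1 : (ac g⁻¹ : 𝕍 →ₗ[F] 𝕍) y = l • p := by
      show (g⁻¹ : GL ι F).val *ᵥ y = l • p
      rw [← hl, inv_act]
    rw [e1]
    refine ⟨smul_mem_kl l p, mem_img.2 ⟨l, ?_⟩⟩
    rw [hact, hl, ← ha, hXp, ha, ← hl, inv_act]
  have hj : inter K g p ≤ inter K g' p := by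
    have := Submodule.finrank_mono hle
    rwa [LinearEquiv.finrank_map_eq] at this
  have ht' : Top h G g' p := ⟨hc', ht.pos.trans_le hj, fun a b hab => (ht.max a b hab).trans hj⟩
  refine ⟨g', p, ht', ?_⟩
  set x0' := (g⁻¹ : GL ι F).val *ᵥ (X.val *ᵥ x0)
  have horth : ∀ y ∈ img K g p, B (X.val *ᵥ x0) y = 0 := by
    intro y hy
    rw [← hIC] at hy
    obtain ⟨a, ha, c, hc, rfl⟩ := Submodule.mem_sup.1 hy
    obtain ⟨l, rfl⟩ := mem_kl.1 ha.1
    have h1 : B (X.val *ᵥ x0) (l • p) = 0 := by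
      rw [← hXp l, D.space.B_act (hG.le hX)]
      exact img_isotropic D hG hg hp hx0 ha.2
    have h2 : (B (X.val *ᵥ x0)).comp C.subtype = 0 := b.ext fun i => by
      show B (X.val *ᵥ x0) (b i : 𝕍) = 0
      have h3 := hsol i
      rw [hXa, rt]
      simp only [L, Cb, LinearMap.mk₂_apply, LinearMap.comp_apply, LinearMap.flip_apply,
        Submodule.subtype_apply, LinearMap.coe_restrictScalars, LinearMap.sub_apply, LinearMap.BilinForm.flip_apply,
        LinearMap.smul_apply, LinearMap.id_apply, LinearMap.smulRight_apply] at h3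
      simp only [map_add, map_sub, LinearMap.add_apply, LinearMap.sub_apply, add_smul] at h3 ⊢
      rw [img_isotropic D hG hg hp hx0 (b i).2.2]
      linear_combination h3
    rw [map_add, h1, zero_add]
    exact LinearMap.congr_fun h2 ⟨c, hc⟩
  have hx0' : x0' ∈ img K g' p := by
    obtain ⟨k, hk⟩ := mem_img.1 hx0
    exact mem_img.2 ⟨k, by rw [hact, hk]⟩
  have hx0'p : h x0' p = 0 := ext_trace (F := F) fun k => by
    rw [← D.smul_right, ← D.space.B_act (hG.le hg), act_inv, horth _ (mem_img.2 ⟨k, rfl⟩), mul_zero,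
      map_zero]
  refine fun x hx => ht'.no_partial D hG hx0' hx0'p (fun hk => ?_) hx
  obtain ⟨y, hy, hXy⟩ := hmove
  obtain ⟨a, ha⟩ := mem_kl.1 hk
  have hXx0 : X.val *ᵥ x0 ∈ img K g p := mem_img.2 ⟨a, by rw [ha, act_inv]⟩
  refine hXy (ht.rigid hX (S := I ⊔ Submodule.span F {x0}) (sup_le inf_le_right
    ((Submodule.span_singleton_le_iff_mem _ _).2 hx0)) ?_ ?_ y hy)
  · intro v hv
    obtain ⟨a, ha, b, hb, rfl⟩ := Submodule.mem_sup.1 hv
    obtain ⟨c, rfl⟩ := Submodule.mem_span_singleton.1 hb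
    obtain ⟨l, rfl⟩ := mem_kl.1 ha.1
    rw [Matrix.mulVec_add, Matrix.mulVec_smul, hXp]
    exact Submodule.add_mem _ ha.2 (Submodule.smul_mem _ _ hXx0)
  · exact Submodule.finrank_lt_finrank_of_lt (SetLike.lt_iff_le_and_exists.2
      ⟨le_sup_left, x0, Submodule.mem_sup_right (Submodule.mem_span_singleton_self x0),
        fun h' => hf0 (by
          obtain ⟨l, hl⟩ := mem_kl.1 h'.1
          rw [← hl, map_smul, LinearMap.smul_apply, hp, smul_zero])⟩)

variable (Q B h G) in
/-- An element moving a singular line in rank one. -/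
structure Flat (A : GL ι F) (p e : 𝕍) (t : K) : Prop where
  mem : A ∈ G
  ne0 : p ≠ 0
  sing : h p p = 0
  perp : h p e = 0
  indep : e ∉ K ∙ p
  iso : B e e = 0
  ne : t ≠ 0
  act : ∀ k : K, A.val *ᵥ (k • p) = k • p + Algebra.trace F K (k * t) • e
  fix : A.val *ᵥ e = e
  back : ∀ v, h p v = 0 → B v e = 0 → ∃ (k : K) (c : F),
    (A⁻¹ : GL ι F).val *ᵥ v = v + (k • p + c • e) ∧ A.val *ᵥ (k • p + c • e) = k • p + c • e

/-- An element moving a singular line in rank one exists. -/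
theorem exists_flat (D : Ext Q B h) (hG : Over Q h G) (hr : (finrank F K).Prime) :
    ∃ A p e t, Flat B h G A p e t := by
  classical
  have : Finite F := Finite.of_injective _ (algebraMap F K).injective
  obtain ⟨g, p, ht, hperp⟩ := exists_top_perp D hG hr.two_le
  have hp := ht.conf.sing
  have hp0 := ht.conf.ne0
  have hg := ht.conf.mem
  obtain ⟨e, he, hek⟩ := SetLike.not_le_iff_exists.1 ht.conf.not_le
  have hpe : h p e = 0 := by rw [D.symm]; exact hperp e he
  have heK : e ∉ K ∙ p := hek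
  let J : Submodule F K := (img K g p).comap ((LinearMap.toSpanSingleton K 𝕍 p).restrictScalars F)
  have hJ : ∀ k, k ∈ J ↔ k • p ∈ img K g p := fun k => Iff.rfl
  set I := kl K p ⊓ img K g p
  have hJI : finrank F J = inter K g p := by
    have h1 : J.map ((LinearMap.toSpanSingleton K 𝕍 p).restrictScalars F) = I := by
      ext x
      constructor
      · rintro ⟨k, hk, rfl⟩
        exact ⟨smul_mem_kl k p, hk⟩
      · rintro ⟨hx1, hx2⟩
        obtain ⟨k, rfl⟩ := mem_kl.1 hx1
        exact ⟨k, hx2, rfl⟩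
    rw [show inter K g p = finrank F I from rfl, ← h1]
    exact (Submodule.equivMapOfInjective _ (smul_left_injective K hp0) J).finrank_eq
  have hJtop : ∀ k : K, ∃ k', k' * k ∉ J ∨ k = 0 := fun k => by
    rcases eq_or_ne k 0 with rfl | hk
    · exact ⟨0, Or.inr rfl⟩
    by_contra hc
    push Not at hc
    refine ht.conf.moved (Submodule.eq_of_le_of_finrank_le (fun x hx => ?_)
      (by rw [finrank_img g hp0, finrank_kl hp0])).symm
    obtain ⟨a, rfl⟩ := mem_kl.1 hx
    have := (hc (a / k)).1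
    rwa [div_mul_cancel₀ _ hk] at this
  -- everything lies on the line of `p` and the line of `e`
  have hspan : ∀ x ∈ img K g p, ∀ w, h p w = 0 → h e w = 0 → h x w = 0 := by
    intro x hx w hpw hew
    have key : ∀ k : K, k * h x w ∈ J := by
      intro k
      obtain ⟨X, hX, hXa⟩ := hG.roots p (k • w) hp (by rw [map_smul, hpw, smul_zero])
      have hin := ht.rigid hX (S := I ⊔ Submodule.span F {e}) (sup_le inf_le_right
          ((Submodule.span_singleton_le_iff_mem _ _).2 he)) (fun v hv => by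
        have hv' : v ∈ img K g p := (sup_le inf_le_right
          ((Submodule.span_singleton_le_iff_mem _ _).2 he)) hv
        rwa [hXa, rt_fix (hperp v hv')]
        obtain ⟨a, ha, b, hb, rfl⟩ := Submodule.mem_sup.1 hv
        obtain ⟨c, rfl⟩ := Submodule.mem_span_singleton.1 hb
        obtain ⟨l, rfl⟩ := mem_kl.1 ha.1
        simp [hpw, hew, LinearMap.map_smul_of_tower])
        (Submodule.finrank_lt_finrank_of_lt (SetLike.lt_iff_le_and_exists.2
          ⟨le_sup_left, e, Submodule.mem_sup_right (Submodule.mem_span_singleton_self e),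
            fun h' => hek h'.1⟩)) x hx
      rw [hXa, rt_perp (hperp x hx), map_smul, smul_eq_mul] at hin
      have := Submodule.sub_mem _ hx hin
      rwa [sub_sub_cancel] at this
    obtain ⟨k', h1 | h1⟩ := hJtop (h x w)
    · exact absurd (key k') h1
    · exact h1
  obtain ⟨μ, hμp, hμe⟩ : ∃ μ : 𝕍 →ₗ[K] K, μ p = 0 ∧ μ e = 1 := by
    obtain ⟨φ, hφe, hφp⟩ := Submodule.exists_dual_map_eq_bot_of_notMem heK inferInstance
    have : φ p = 0 := by
      have h1 : φ p ∈ (K ∙ p).map φ := ⟨p, Submodule.mem_span_singleton_self p, rfl⟩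
      rwa [hφp, Submodule.mem_bot] at h1
    exact ⟨(φ e)⁻¹ • φ, by simp [this], by simp [inv_mul_cancel₀ hφe]⟩
  obtain ⟨s₀, hs₀⟩ := D.exists_dual μ
  have hsp : h s₀ p = 0 := by rw [hs₀, hμp]
  have hse : h s₀ e = 1 := by rw [hs₀, hμe]
  have hcoord : ∀ x ∈ img K g p, ∃ k : K, x = k • p + h s₀ x • e := by
    intro x hx
    have hmem : h x ∈ Submodule.span K (Set.range ![h p, h e]) :=
      FiniteDimensional.mem_span_of_iInf_ker_le_ker fun w hw => by
        rw [Submodule.mem_iInf] at hw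
        exact hspan x hx w (hw 0) (hw 1)
    rw [Matrix.range_cons_cons_empty, Submodule.mem_span_pair] at hmem
    obtain ⟨a, b, hab⟩ := hmem
    have hx' : x = a • p + b • e := by
      refine sub_eq_zero.1 (D.sep fun w => ?_)
      rw [map_sub, LinearMap.sub_apply, ← hab]
      simp
    refine ⟨a, ?_⟩
    conv_lhs => rw [hx']
    rw [hx', map_add, map_smul, map_smul, hsp, hse, smul_zero, zero_add, smul_eq_mul, mul_one]
  -- the coefficient of `e` is in `F`
  obtain ⟨x₁, ⟨hx₁k, hx₁⟩, hx₁0⟩ := Submodule.exists_mem_ne_zero_of_ne_bot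
    (show I ≠ ⊥ from fun e0 => by
      have h1 : finrank F I = 0 := by rw [e0, finrank_bot]
      exact ht.pos.ne' h1)
  obtain ⟨j₁, rfl⟩ := mem_kl.1 hx₁k
  have hj₁ : j₁ ≠ 0 := fun e0 => hx₁0 (by rw [e0, zero_smul])
  let S : Subalgebra F K :=
    { carrier := {a | ∀ c ∈ J, a * c ∈ J}
      mul_mem' := fun {a b} ha hb c hc => by rw [mul_assoc]; exact ha _ (hb _ hc)
      one_mem' := fun c hc => by rwa [one_mul]
      add_mem' := fun {a b} ha hb c hc => by rw [add_mul]; exact J.add_mem (ha _ hc) (hb _ hc)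
      zero_mem' := fun c _ => by rw [zero_mul]; exact J.zero_mem
      algebraMap_mem' := fun a c hc => by rw [← Algebra.smul_def]; exact J.smul_mem a hc }
  have hSmem : ∀ x ∈ img K g p, h s₀ x ∈ S := by
    intro x hx j hj
    obtain ⟨X, hX, hXa⟩ := hG.roots p (j • s₀) hp (by rw [map_smul, D.symm, hsp, smul_zero])
    have hval : ∀ y ∈ img K g p, X.val *ᵥ y = y - (h s₀ y * j) • p := fun y hy => by
      rw [hXa, rt_perp (hperp y hy), map_smul, smul_eq_mul, D.symm y s₀, mul_comm]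
    have hin := ht.rigid hX (S := I ⊔ Submodule.span F {e}) (sup_le inf_le_right
        ((Submodule.span_singleton_le_iff_mem _ _).2 he)) (fun v hv => by
      have hv' : v ∈ img K g p := (sup_le inf_le_right
        ((Submodule.span_singleton_le_iff_mem _ _).2 he)) hv
      rw [hval v hv']
      refine Submodule.sub_mem _ hv' ?_
      obtain ⟨a, ha, b, hb, rfl⟩ := Submodule.mem_sup.1 hv
      obtain ⟨c, rfl⟩ := Submodule.mem_span_singleton.1 hb
      obtain ⟨l, rfl⟩ := mem_kl.1 ha.1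
      have : h s₀ (l • p + c • e) = algebraMap F K c := by
        simp [hsp, hse, LinearMap.map_smul_of_tower, Algebra.algebraMap_eq_smul_one]
      rw [this, ← Algebra.smul_def, smul_assoc]
      exact Submodule.smul_mem _ c hj)
      (Submodule.finrank_lt_finrank_of_lt (SetLike.lt_iff_le_and_exists.2
        ⟨le_sup_left, e, Submodule.mem_sup_right (Submodule.mem_span_singleton_self e),
          fun h' => hek h'.1⟩)) x hx
    rw [hval x hx] at hin
    have := Submodule.sub_mem _ hx hin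
    rwa [sub_sub_cancel] at this
  have hbot : S = ⊥ := by
    have := Subalgebra.isSimpleOrder_of_finrank_prime F K hr
    refine (eq_bot_or_eq_top S).resolve_right fun e0 => ?_
    obtain ⟨k', h1 | h1⟩ := hJtop j₁
    · exact h1 ((e0 ▸ Algebra.mem_top : k' ∈ S) j₁ hx₁)
    · exact hj₁ h1
  have hdec : ∀ x ∈ img K g p, ∃ (k : K) (c : F), k ∈ J ∧ x = k • p + c • e := by
    intro x hx
    obtain ⟨k, hk⟩ := hcoord x hx
    obtain ⟨c, hc⟩ := Algebra.mem_bot.1 (hbot ▸ hSmem x hx)
    refine ⟨k, c, ?_, by rw [hk, ← hc, algebraMap_smul]⟩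
    rw [hJ, show k • p = x - c • e by rw [hk, ← hc, algebraMap_smul, add_sub_cancel_right]]
    exact Submodule.sub_mem _ hx (Submodule.smul_mem _ _ he)
  -- `J` is a hyperplane
  have hJr : finrank F K ≤ finrank F J + 1 := by
    have h1 : img K g p ≤ I ⊔ Submodule.span F {e} := fun x hx => by
      obtain ⟨k, c, hk, rfl⟩ := hdec x hx
      exact Submodule.add_mem_sup ⟨smul_mem_kl k p, hk⟩
        (Submodule.smul_mem _ _ (Submodule.mem_span_singleton_self e))
    have h2 := (Submodule.finrank_mono h1).trans (Submodule.finrank_add_le_finrank_add_finrank _ _)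
    rw [finrank_img g hp0, finrank_span_singleton (fun e0 : e = 0 => heK (e0 ▸ Submodule.zero_mem _))] at h2
    rw [hJI]
    exact h2
  obtain ⟨k₁', hk₁' | hk₁'⟩ := hJtop 1
  swap
  · exact absurd hk₁' one_ne_zero
  rw [mul_one] at hk₁'
  obtain ⟨φ, hφ1, hφJ⟩ := Submodule.exists_dual_map_eq_bot_of_notMem hk₁' inferInstance
  let lam : K →ₗ[F] F := (φ k₁')⁻¹ • φ
  have hlamJ : ∀ k ∈ J, lam k = 0 := fun k hk => by
    have h1 : φ k ∈ J.map φ := ⟨k, hk, rfl⟩
    rw [hφJ, Submodule.mem_bot] at h1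
    simp [lam, h1]
  have hlam1 : lam k₁' = 1 := by simp [lam, inv_mul_cancel₀ hφ1]
  have hJtop' : J ⊔ Submodule.span F {k₁'} = ⊤ := by
    refine Submodule.eq_top_of_finrank_eq ?_
    have h1 : J < J ⊔ Submodule.span F {k₁'} := SetLike.lt_iff_le_and_exists.2
      ⟨le_sup_left, k₁', Submodule.mem_sup_right (Submodule.mem_span_singleton_self _), hk₁'⟩
    have h2 := Submodule.finrank_lt_finrank_of_lt h1
    have h3 := Submodule.finrank_le (J ⊔ Submodule.span F {k₁'})
    omega
  set t : K := ((Algebra.traceForm F K).toDual (traceForm_nondegenerate F K)).symm lam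
  have hlam : ∀ k, lam k = Algebra.trace F K (k * t) := fun k => by
    have := LinearMap.BilinForm.apply_toDual_symm_apply (hB := traceForm_nondegenerate F K) lam k
    rw [Algebra.traceForm_apply, mul_comm] at this
    exact this.symm
  have ht0 : t ≠ 0 := fun e0 => by
    have := hlam k₁'
    rw [hlam1, e0, mul_zero, map_zero] at this
    exact one_ne_zero this
  set y₁ := (g⁻¹ : GL ι F).val *ᵥ (k₁' • p) with hy₁
  have hgi : ∀ v, (∀ x ∈ img K g p, B v x = 0) → h ((g⁻¹ : GL ι F).val *ᵥ v) p = 0 := fun v hv =>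
    ext_trace (F := F) fun k => by
      rw [← D.smul_right, ← D.space.B_act (hG.le hg), act_inv, hv _ (mem_img.2 ⟨k, rfl⟩), mul_zero,
        map_zero]
  have hy₁p : h y₁ p = 0 := hgi _ fun x hx => by
    rw [D.smul_left, D.symm, hperp x hx, mul_zero, map_zero]
  have hy₁K : y₁ ∉ K ∙ p := fun hm => by
    obtain ⟨a, ha⟩ := Submodule.mem_span_singleton.1 hm
    exact hk₁' ((hJ _).2 (mem_img.2 ⟨a, by rw [ha, hy₁, act_inv]⟩))
  obtain ⟨s, hs⟩ := mem_img.1 he
  obtain ⟨φ', hφy, hφp⟩ := Submodule.exists_dual_map_eq_bot_of_notMem hy₁K inferInstance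
  have hφ'p : φ' p = 0 := by
    have h1 : φ' p ∈ (K ∙ p).map φ' := ⟨p, Submodule.mem_span_singleton_self p, rfl⟩
    rwa [hφp, Submodule.mem_bot] at h1
  obtain ⟨z, hz⟩ := D.exists_dual ((-s / φ' y₁) • φ')
  have hzp : h p z = 0 := by rw [D.symm, hz, LinearMap.smul_apply, hφ'p, smul_zero]
  have hzy : h y₁ z = -s := by
    rw [D.symm, hz, LinearMap.smul_apply, smul_eq_mul, div_mul_cancel₀ _ hφy]
  obtain ⟨X, hX, hXa⟩ := hG.roots p z hp hzp
  set A := g * X * g⁻¹
  have hA : ∀ v, A.val *ᵥ v = g.val *ᵥ (rt h p z ((g⁻¹ : GL ι F).val *ᵥ v)) := fun v => by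
    rw [mul_act, mul_act, hXa]
  have hfix : ∀ x ∈ img K g p, A.val *ᵥ x = x := by
    intro x hx
    obtain ⟨k, rfl⟩ := mem_img.1 hx
    rw [hA, inv_act, rt_fix (by simp [hp]) (by rw [map_smul, LinearMap.smul_apply, hzp, smul_zero])]
  have hline : A.val *ᵥ (k₁' • p) = k₁' • p + e := by
    rw [hA, rt_perp hy₁p, hzy, neg_smul, sub_neg_eq_add, Matrix.mulVec_add, hy₁, act_inv, hs]
  refine ⟨A, p, e, t, G.mul_mem (G.mul_mem hg hX) (G.inv_mem hg), hp0, hp, hpe, heK,
    img_isotropic D hG hg hp he he, ht0, fun k => ?_, hfix e he, fun v hpv hve => ?_⟩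
  · obtain ⟨j, hj, c, hc, hjc⟩ := Submodule.mem_sup.1 (hJtop' ▸ Submodule.mem_top : k ∈ J ⊔ Submodule.span F {k₁'})
    obtain ⟨c', rfl⟩ := Submodule.mem_span_singleton.1 hc
    rw [← hlam, ← hjc, map_add, map_smul, hlamJ j hj, hlam1, zero_add, smul_eq_mul, mul_one,
      add_smul, Matrix.mulVec_add, hfix _ ((hJ j).1 hj), smul_assoc, Matrix.mulVec_smul, hline, smul_add]
    abel
  · have hv : h ((g⁻¹ : GL ι F).val *ᵥ v) p = 0 := hgi v fun x hx => by
      obtain ⟨k, c, -, rfl⟩ := hdec x hx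
      rw [map_add, D.smul_right, map_smul, hve, smul_zero, D.symm, hpv, mul_zero, map_zero, add_zero]
    set y := g.val *ᵥ (h ((g⁻¹ : GL ι F).val *ᵥ v) z • p)
    have hy : y ∈ img K g p := mem_img.2 ⟨_, rfl⟩
    have hAv : A.val *ᵥ v = v - y := by
      rw [hA, rt_perp hv, Matrix.mulVec_sub, act_inv]
    obtain ⟨k, c, -, hkc⟩ := hdec y hy
    refine ⟨k, c, ?_, hkc ▸ hfix y hy⟩
    rw [← hkc]
    refine (ac A).injective ?_
    show A.val *ᵥ ((A⁻¹ : GL ι F).val *ᵥ v) = A.val *ᵥ (v + y)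
    rw [act_inv, Matrix.mulVec_add, hAv, hfix y hy, sub_add_cancel]

end Finite

end Cfsg.Lib.Linear.OrthExt
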