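import Cfsg.Agent.Lib.Linear.OrthExt.Pair
import Cfsg.Agent.Lib.Linear.OrthSubfieldTop

/-!
# A Siegel element of the ground field

From an element moving a singular line in rank one, commutators with root elements give a Siegel
element of the trace form centred at a singular vector of `h`.
-/

set_option autoImplicit false

namespace Cfsg.Lib.Linear.OrthExt

open Module
open scoped Matrix
open Cfsg.Lib.Linear.Orth

variable {ι : Type} [Fintype ι] [DecidableEq ι] {F K : Type*} [Field F] [Field K] [Algebra F K]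
  [Module K (ι → F)] [IsScalarTower F K (ι → F)]
  {Q : (ι → F) → F} {B : LinearMap.BilinForm F (ι → F)} {h : LinearMap.BilinForm K (ι → F)}
  {G : Subgroup (GL ι F)}

local notation "𝕍" => (ι → F)

theorem Ext.B_of_h (D : Ext Q B h) {x y : 𝕍} (hxy : h x y = 0) : B x y = 0 := by
  rw [D.tr, hxy, map_zero]

theorem Ext.Q_sing (D : Ext Q B h) {x : 𝕍} (hx : h x x = 0) : Q x = 0 :=
  (D.Q_zero_iff x).2 (D.B_of_h hx)

theorem Ext.trace_scalar (_D : Ext Q B h) (a : F) (k : K) :
    Algebra.trace F K (k * algebraMap F K a) = a * Algebra.trace F K k := by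
  rw [mul_comm, ← Algebra.smul_def, map_smul, smul_eq_mul]

/-- The inverse of a root map. -/
theorem rt_neg (D : Ext Q B h) {p w : 𝕍} (hp : h p p = 0) (hw : h p w = 0) (x : 𝕍) :
    rt h p (-w) (rt h p w x) = x := by
  have h1 : h (rt h p w x) p = h x p := by simp [rt, hp, D.symm w p, hw]
  have h2 : h (rt h p w x) w = h x w + h x p * h w w := by simp [rt, hw]
  rw [rt, h1, map_neg, h2, LinearMap.map_neg₂, map_neg (h w), neg_neg, rt, smul_neg]
  match_scalars <;> field_simp [D.two'] <;> ring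

section Finite

variable [Finite K] [FiniteDimensional F K] [FiniteDimensional K (ι → F)]

/-- Non-orthogonal vectors inside the orthogonal space, or that space is the span. -/
theorem Ext.perp_cases (D : Ext Q B h) {p e : 𝕍} (hp : h p p = 0) :
    (∃ w ∈ OrthExt.perp h p e, ∃ w' ∈ OrthExt.perp h p e, h w' w ≠ 0) ∨
      (finrank K 𝕍 = 4 ∧ h e e = 0 ∧
        ∀ x ∈ OrthExt.perp h p e, ∃ a b : K, x = a • p + b • e) := by
  by_cases hex : ∃ w ∈ OrthExt.perp h p e, ∃ w' ∈ OrthExt.perp h p e, h w' w ≠ 0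
  · exact Or.inl hex
  push Not at hex
  have hle : OrthExt.perp h p e ≤ Submodule.span K {p, e} := by
    intro x hx
    have hmem : h x ∈ Submodule.span K (Set.range ![h p, h e]) :=
      FiniteDimensional.mem_span_of_iInf_ker_le_ker fun w hw => by
        rw [Submodule.mem_iInf] at hw
        exact hex w (mem_perp.2 ⟨hw 0, hw 1⟩) x hx
    rw [Matrix.range_cons_cons_empty, Submodule.mem_span_pair] at hmem
    obtain ⟨a, b, hab⟩ := hmem
    refine Submodule.mem_span_pair.2 ⟨a, b, sub_eq_zero.1 (D.sep fun w => ?_)⟩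
    rw [map_sub, LinearMap.sub_apply, ← hab]
    simp
  have h1 : finrank K (Submodule.span K ({p, e} : Set 𝕍)) ≤ 2 := by
    classical
    have := finrank_span_finset_le_card (R := K) ({p, e} : Finset 𝕍)
    rw [Finset.coe_pair] at this
    exact this.trans Finset.card_le_two
  have h2 : finrank K 𝕍 ≤ finrank K (OrthExt.perp h p e) + 2 := D.finrank_perp p e
  have h3 := Submodule.finrank_mono hle
  have h4 := D.dim
  have heq := Submodule.eq_of_le_of_finrank_le hle (by omega)
  refine Or.inr ⟨by omega, ?_, fun x hx => ?_⟩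
  · have he : e ∈ OrthExt.perp h p e := heq ▸ Submodule.subset_span (Set.mem_insert_of_mem _ rfl)
    exact (mem_perp.1 he).2
  · obtain ⟨a, b, hab⟩ := Submodule.mem_span_pair.1 (hle hx)
    exact ⟨a, b, hab.symm⟩

/-- The first commutator. -/
theorem Flat.comm (D : Ext Q B h) (hG : Over Q h G) {A : GL ι F} {p e : 𝕍} {t : K}
    (hA : Flat B h G A p e t) {w : 𝕍} (hpw : h p w = 0) (hew : h e w = 0) :
    ∃ N ∈ G, ∀ v, h p v = 0 → B v e = 0 →
      N.val *ᵥ v = v - Algebra.trace F K (h v w * t) • e := by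
  have hp := hA.sing
  obtain ⟨X, hX, hXa⟩ := hG.roots p w hp hpw
  obtain ⟨X', hX', hX'a⟩ := hG.roots p (-w) hp (by rw [map_neg, hpw, neg_zero])
  refine ⟨A * X * A⁻¹ * X', G.mul_mem (G.mul_mem (G.mul_mem hA.mem hX) (G.inv_mem hA.mem)) hX',
    fun v hpv hve => ?_⟩
  have hvp : h v p = 0 := by rw [D.symm, hpv]
  set k' := h v w
  set n' := Algebra.trace F K (k' * t)
  obtain ⟨k, c, hback, hn⟩ := hA.back v hpv hve
  have e1 : X'.val *ᵥ v = v + k' • p := by rw [hX'a, rt_perp hvp, map_neg, neg_smul, sub_neg_eq_add]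
  have e2 : A.val *ᵥ (k' • p - n' • e) = k' • p := by
    rw [Matrix.mulVec_sub, Matrix.mulVec_smul, hA.act, hA.fix, add_sub_cancel_right]
  have e3 : (A⁻¹ : GL ι F).val *ᵥ (k' • p) = k' • p - n' • e := by
    conv_lhs => rw [← e2]
    rw [inv_act]
  set n := k • p + c • e
  have hep : h e p = 0 := by rw [D.symm, hA.perp]
  have h1 : h (v + n + (k' • p - n' • e)) p = 0 := by
    simp [n, hvp, hp, hep, LinearMap.map_smul_of_tower]
  have h2 : h (v + n + (k' • p - n' • e)) w = k' := by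
    simp [n, hpw, hew, k', LinearMap.map_smul_of_tower]
  rw [mul_act, mul_act, mul_act, e1, Matrix.mulVec_add, hback, e3, hXa, rt_perp h1, h2,
    show v + n + (k' • p - n' • e) - k' • p = (v + n) - n' • e by abel, Matrix.mulVec_sub,
    Matrix.mulVec_smul, hA.fix]
  congr 1
  rw [show v + n = (A⁻¹ : GL ι F).val *ᵥ v from hback.symm, act_inv]

/-- Two commutators give a Siegel element of the ground field. -/
theorem Flat.siegel (D : Ext Q B h) (hG : Over Q h G) {A : GL ι F} {p e : 𝕍} {t : K}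
    (hA : Flat B h G A p e t) {w w' : 𝕍} (hw : w ∈ OrthExt.perp h p e) (hw' : w' ∈ OrthExt.perp h p e) :
    sGL Q B ((h w' w * t) • p) (-e) ∈ G := by
  obtain ⟨hpw, hew⟩ := mem_perp.1 hw
  obtain ⟨hpw', hew'⟩ := mem_perp.1 hw'
  have hp := hA.sing
  obtain ⟨N, hN, hNa⟩ := hA.comm D hG hpw hew
  obtain ⟨X, hX, hXa⟩ := hG.roots p w' hp hpw'
  set m := h w' w * t
  have hiso := hG.le hN
  have hN1 : ∀ k : K, N.val *ᵥ (k • p) = k • p := fun k => by
    rw [hNa _ (by simp [hp]) (D.B_of_h (by simp [hA.perp]))]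
    simp [hpw]
  have hN2 : ∀ k : K, N.val *ᵥ (k • w') = k • w' - Algebra.trace F K (k * m) • e := fun k => by
    rw [hNa _ (by simp [hpw']) (D.B_of_h (by simp [D.symm w' e, hew']))]
    simp [m, mul_assoc]
  have hQe : Q e = 0 := (D.Q_zero_iff e).2 hA.iso
  have hQmp : Q (m • p) = 0 := D.Q_smul hp m
  have hemp : B e (m • p) = 0 := D.B_of_h (by simp [D.symm e p, hA.perp])
  have key : sGL Q B e (m • p) = N * X * N⁻¹ * X⁻¹ := by
    refine eq_mul_inv_of_mul_eq (gl_ext fun x => ?_)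
    set y := (N⁻¹ : GL ι F).val *ᵥ x
    have hxy : N.val *ᵥ y = x := act_inv N x
    have h1 : h y p = h x p := ext_trace (F := F) fun k => by
      rw [← D.smul_right, ← D.smul_right, ← D.space.B_act hiso, hxy, hN1]
    have h2 : h y w' = h x w' - B x e • m := ext_trace (F := F) fun k => by
      rw [← D.smul_right, ← D.space.B_act hiso, hxy, hN2, map_sub, D.smul_right, map_smul,
        mul_sub, map_sub, Algebra.mul_smul_comm, map_smul, smul_eq_mul, smul_eq_mul]
      ring
    rw [mul_act, mul_act, mul_act, hXa, hXa, sGL_act D.space hQe hemp, hQmp]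
    have e1 : B e (rt h p w' x) = B x e := by
      rw [rt]
      simp only [map_sub, map_add, D.smul_right, hew', hA.perp, D.symm e p, mul_zero, map_zero,
        add_zero, sub_zero]
      exact D.space.symm e x
    have e2 : B (m • p) (rt h p w' x) = Algebra.trace F K (h x p * m) := by
      rw [D.space.symm, D.smul_right, rt]
      congr 1
      simp [hp, D.symm w' p, hpw']
      ring
    rw [e1, e2, zero_mul, add_zero]
    show rt h p w' x + B x e • (m • p) - Algebra.trace F K (h x p * m) • e = N.val *ᵥ rt h p w' y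
    simp only [rt, h1, h2]
    rw [Matrix.mulVec_sub, Matrix.mulVec_add, hxy, hN2, hN1,
      show h x w' - B x e • m + 2⁻¹ * h w' w' * h x p =
        (h x w' + 2⁻¹ * h w' w' * h x p) - B x e • m by ring,
      sub_smul (h x w' + 2⁻¹ * h w' w' * h x p), smul_assoc]
    abel
  have hmem : sGL Q B e (m • p) ∈ G :=
    key ▸ G.mul_mem (G.mul_mem (G.mul_mem hN hX) (G.inv_mem hN)) (G.inv_mem hX)
  rwa [sGL_swap D.space hQe hQmp hemp] at hmem

variable (K G) in
/-- An element fixing the span of `p` and `e`. -/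
structure FixS (N : GL ι F) (p e : 𝕍) : Prop where
  mem : N ∈ G
  fix : ∀ a b : K, N.val *ᵥ (a • p + b • e) = a • p + b • e

theorem FixS.image (D : Ext Q B h) (hG : Over Q h G) {N : GL ι F} {p e : 𝕍} (hN : FixS K G N p e)
    (hspan : ∀ x ∈ OrthExt.perp h p e, ∃ a b : K, x = a • p + b • e) (x : 𝕍) :
    ∃ a b : K, N.val *ᵥ x - x = a • p + b • e := by
  refine hspan _ (mem_perp.2 ⟨?_, ?_⟩)
  · refine ext_trace (F := F) fun k => ?_
    have := D.space.B_act (hG.le hN.mem) (k • p) x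
    rw [show k • p = k • p + (0 : K) • e by rw [zero_smul, add_zero], hN.fix, zero_smul, add_zero] at this
    rw [← D.smul_left, map_sub, this, sub_self, mul_zero, map_zero]
  · refine ext_trace (F := F) fun k => ?_
    have := D.space.B_act (hG.le hN.mem) (k • e) x
    rw [show k • e = (0 : K) • p + k • e by rw [zero_smul, zero_add], hN.fix, zero_smul, zero_add] at this
    rw [← D.smul_left, map_sub, this, sub_self, mul_zero, map_zero]

theorem FixS.skew (D : Ext Q B h) (hG : Over Q h G) {N : GL ι F} {p e : 𝕍} (hN : FixS K G N p e)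
    (hspan : ∀ x ∈ OrthExt.perp h p e, ∃ a b : K, x = a • p + b • e) (hp : h p p = 0) (hpe : h p e = 0)
    (he : h e e = 0) (x y : 𝕍) : B (N.val *ᵥ x - x) y + B x (N.val *ᵥ y - y) = 0 := by
  obtain ⟨a, b, hab⟩ := hN.image D hG hspan x
  obtain ⟨c, d, hcd⟩ := hN.image D hG hspan y
  have h0 : B (N.val *ᵥ x - x) (N.val *ᵥ y - y) = 0 := by
    rw [hab, hcd]
    exact D.B_of_h (by simp [hp, hpe, he, D.symm e p])
  have h1 := D.space.B_act (hG.le hN.mem) x y
  rw [show N.val *ᵥ x = x + (N.val *ᵥ x - x) by abel, show N.val *ᵥ y = y + (N.val *ᵥ y - y) by abel,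
    map_add, map_add, LinearMap.add_apply, LinearMap.add_apply, h0] at h1
  linear_combination h1

/-- The commutator with a root element moving `e` along `p`. -/
theorem FixS.step (D : Ext Q B h) (hG : Over Q h G) {N : GL ι F} {p e f : 𝕍} (hN : FixS K G N p e)
    (hspan : ∀ x ∈ OrthExt.perp h p e, ∃ a b : K, x = a • p + b • e) (hp : h p p = 0) (hpe : h p e = 0)
    (hff : h f f = 0) (hpf : h p f = 0) :
    ∃ D', FixS K G D' p e ∧ ∀ x, D'.val *ᵥ x - x =
      (N.val *ᵥ rt h p f x - rt h p f x) +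
        h (N.val *ᵥ rt h p f x - rt h p f x) f • p - (N.val *ᵥ x - x) := by
  obtain ⟨Y, hY, hYa⟩ := hG.roots p (-f) hp (by rw [map_neg, hpf, neg_zero])
  obtain ⟨Z, hZ, hZa⟩ := hG.roots p f hp hpf
  have hYZ : ∀ x, Y.val *ᵥ (Z.val *ᵥ x) = x := fun x => by
    rw [hYa, hZa, rt_neg D hp hpf]
  have hYS : ∀ a b : K, Y.val *ᵥ (a • p + b • e) = (a • p + b • e) + h (a • p + b • e) f • p :=
    fun a b => by
      rw [hYa, rt_perp (by simp [hp, D.symm e p, hpe]), map_neg, neg_smul, sub_neg_eq_add]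
  have hZS : ∀ a b : K, Z.val *ᵥ (a • p + b • e) = (a • p + b • e) - h (a • p + b • e) f • p :=
    fun a b => by rw [hZa, rt_perp (by simp [hp, D.symm e p, hpe])]
  have hZN : ∀ a b : K, N.val *ᵥ (Z.val *ᵥ (a • p + b • e)) = Z.val *ᵥ (a • p + b • e) :=
    fun a b => by
      rw [hZS, show a • p + b • e - h (a • p + b • e) f • p = (a - h (a • p + b • e) f) • p + b • e by
        rw [sub_smul]; abel, hN.fix]
  have hinv : ∀ x, (N⁻¹ : GL ι F).val *ᵥ x = x - (N.val *ᵥ x - x) := fun x => by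
    refine (ac N).injective ?_
    show N.val *ᵥ ((N⁻¹ : GL ι F).val *ᵥ x) = N.val *ᵥ (x - (N.val *ᵥ x - x))
    obtain ⟨a, b, hab⟩ := hN.image D hG hspan x
    rw [act_inv, Matrix.mulVec_sub, hab, hN.fix, ← hab]
    abel
  refine ⟨Y * N * Z * N⁻¹, ⟨G.mul_mem (G.mul_mem (G.mul_mem hY hN.mem) hZ) (G.inv_mem hN.mem),
    fun a b => ?_⟩, fun x => ?_⟩
  · rw [mul_act, mul_act, mul_act, hinv, hN.fix, sub_self, sub_zero, hZN, hYZ]
  · obtain ⟨a, b, hab⟩ := hN.image D hG hspan x
    obtain ⟨c, d, hcd⟩ := hN.image D hG hspan (rt h p f x)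
    rw [mul_act, mul_act, mul_act, hinv, Matrix.mulVec_sub Z.val, Matrix.mulVec_sub N.val,
      Matrix.mulVec_sub Y.val, hab, hZN, hYZ, hZa,
      show N.val *ᵥ rt h p f x = rt h p f x + (N.val *ᵥ rt h p f x - rt h p f x) by abel,
      Matrix.mulVec_add, hcd, hYS, ← hZa x, hYZ, hZa x]
    abel

theorem Flat.scale {A : GL ι F} {p e : 𝕍} {t : K} (hA : Flat B h G A p e t) {κ : K} (hκ : κ ≠ 0) :
    Flat B h G A (κ • p) e (κ * t) where
  mem := hA.mem
  ne0 := smul_ne_zero hκ hA.ne0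
  sing := by simp [hA.sing]
  perp := by simp [hA.perp]
  indep := fun hm => hA.indep (by
    obtain ⟨a, ha⟩ := Submodule.mem_span_singleton.1 hm
    exact Submodule.mem_span_singleton.2 ⟨a * κ, by rw [← ha, smul_smul]⟩)
  iso := hA.iso
  ne := mul_ne_zero hκ hA.ne
  act := fun k => by rw [smul_smul, hA.act, mul_assoc]
  fix := hA.fix
  back := fun v hv hve => by
    rw [LinearMap.map_smul₂, smul_eq_mul] at hv
    obtain ⟨k, c, h1, h2⟩ := hA.back v ((mul_eq_zero.1 hv).resolve_left hκ) hve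
    refine ⟨k / κ, c, ?_, ?_⟩
    · rwa [smul_smul, div_mul_cancel₀ _ hκ]
    · rwa [smul_smul, div_mul_cancel₀ _ hκ]

theorem Flat.degenerate (D : Ext Q B h) (hG : Over Q h G) {A : GL ι F} {p e : 𝕍} {t : K}
    (hA : Flat B h G A p e t) (he : h e e = 0)
    (hspan : ∀ x ∈ OrthExt.perp h p e, ∃ a b : K, x = a • p + b • e) :
    sGL Q B p ((2 * t) • p) ∈ G := by
  classical
  have : Finite F := Finite.of_injective _ (algebraMap F K).injective
  have hp := hA.sing
  have hpe := hA.perp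
  have hep : h e p = 0 := by rw [D.symm, hpe]
  -- the partner of `e`
  obtain ⟨φ, hφe, hφp⟩ := Submodule.exists_dual_map_eq_bot_of_notMem hA.indep inferInstance
  have hφ'p : φ p = 0 := by
    have h1 : φ p ∈ (K ∙ p).map φ := ⟨p, Submodule.mem_span_singleton_self p, rfl⟩
    rwa [hφp, Submodule.mem_bot] at h1
  obtain ⟨y, hy⟩ := D.exists_dual φ
  obtain ⟨f, hfU, hff, hef⟩ := D.exists_partner (U := LinearMap.ker (h p)) (e := e) (y := y)
    hpe (show h p y = 0 by rw [D.symm, hy, hφ'p]) he (by rw [D.symm, hy]; exact hφe)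
  have hpf : h p f = 0 := hfU
  have hfe : h f e = 1 := by rw [D.symm, hef]
  obtain ⟨N, hN, hNa⟩ := hA.comm D hG hpe he
  have hNS : FixS K G N p e := ⟨hN, fun a b => by
    rw [hNa _ (by simp [hp, hpe]) (D.B_of_h (by simp [he, hpe]))]
    simp [he, hpe]⟩
  set d : 𝕍 → 𝕍 := fun x => N.val *ᵥ x - x with hd
  let σ : K →ₗ[F] K := ((h.flip f).restrictScalars F) ∘ₗ ((ac N : 𝕍 →ₗ[F] 𝕍) - LinearMap.id) ∘ₗ
    (LinearMap.toSpanSingleton K 𝕍 f).restrictScalars F
  have hσ : ∀ k, σ k = h (d (k • f)) f := fun k => rfl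
  obtain ⟨κ, hκ⟩ := Algebra.trace_surjective F K 1
  set T : K →ₗ[F] F := Algebra.trace F K with hT
  set s₀ := σ κ + algebraMap F K (T (κ * t))
  have hσk : ∀ k, σ k = T k • s₀ - algebraMap F K (T (k * t)) := by
    intro k
    set k₀ := k - T k • κ
    have hk₀ : T k₀ = 0 := by simp [k₀, T, hκ]
    have h0 : d (k₀ • f) = -(T (k₀ * t) • e) := by
      simp only [hd]
      rw [hNa _ (by simp [hpf]) (by rw [D.smul_left, hfe, mul_one]; exact hk₀), LinearMap.map_smul₂,
        hfe, smul_eq_mul, mul_one]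
      abel
    have h1 : σ k₀ = -algebraMap F K (T (k₀ * t)) := by
      rw [hσ, h0, map_neg, LinearMap.neg_apply, ← algebraMap_smul K (T (k₀ * t)) e,
        LinearMap.map_smul₂, hef, smul_eq_mul, mul_one]
    have h2 : σ k = σ k₀ + T k • σ κ := by
      rw [← map_smul, ← map_add, sub_add_cancel]
    have h3 : T (k₀ * t) = T (k * t) - T k * T (κ * t) := by
      simp [k₀, T, sub_mul]
    rw [h2, h1, h3, map_sub (algebraMap F K), map_mul (algebraMap F K), smul_add, Algebra.smul_def (T k) (algebraMap F K _)]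
    ring
  have hskew := hNS.skew D hG hspan hp hpe he
  have hzero : ∀ k, T k * T (k * (s₀ - t)) = 0 := by
    intro k
    have h1 := hskew (k • f) (k • f)
    rw [D.space.symm (k • f), D.smul_right] at h1
    have h2 : (2 : F) * T (k * σ k) = 0 := by rw [hσ]; linear_combination h1
    have h3 := (mul_eq_zero.1 h2).resolve_left D.two
    rw [hσk, mul_sub, Algebra.mul_smul_comm] at h3
    simp only [T, map_sub, map_smul, smul_eq_mul, D.trace_scalar] at h3
    simp only [T, mul_sub, map_sub]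
    linear_combination h3
  have hs₀ : s₀ = t := by
    have h1 : T (κ * (s₀ - t)) = 0 := by
      have := hzero κ
      rwa [show T κ = 1 from hκ, one_mul] at this
    refine sub_eq_zero.1 (ext_trace (F := F) fun k => ?_)
    rw [mul_zero, map_zero]
    by_cases hk : T k = 0
    · have := hzero (k + κ)
      simp only [T, add_mul, map_add] at this hk h1 hκ ⊢
      rw [hk, hκ, h1] at this
      linear_combination this
    · exact (mul_eq_zero.1 (hzero k)).resolve_left hk
  rw [hs₀] at hσk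
  -- two commutators
  obtain ⟨D₁, hD₁, hD₁a⟩ := hNS.step D hG hspan hp hpe hff hpf
  obtain ⟨D₂, hD₂, hD₂a⟩ := hD₁.step D hG hspan hp hpe hff hpf
  set δ : 𝕍 → 𝕍 := fun x => D₁.val *ᵥ x - x with hδ
  have hδf : ∀ k : K, δ (k • f) = σ k • p := by
    intro k
    simp only [hδ]
    rw [hD₁a, rt_fix (by simp [D.symm f p, hpf]) (by simp [hff]), hσ]
    simp only [hd]
    abel
  have hδh : ∀ y : 𝕍, h (δ y) f = T (h y p) • t - T (h y p * t) • (1 : K) := fun y =>
    ext_trace (F := F) fun k => by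
      have h1 := hD₁.skew D hG hspan hp hpe he y (k • f)
      change B (δ y) (k • f) + B y (δ (k • f)) = 0 at h1
      rw [hδf, hσk, D.smul_right, D.smul_right] at h1
      change _ = Algebra.trace F K _
      generalize h (δ y) f = v at h1 ⊢
      conv_rhs => rw [mul_sub, Algebra.mul_smul_comm, Algebra.mul_smul_comm, mul_one, map_sub, map_smul, map_smul]
      rw [sub_mul, map_sub, smul_mul_assoc, map_smul, mul_comm (algebraMap F K _) (h y p),
        D.trace_scalar, mul_comm t (h y p)] at h1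
      simp only [T, smul_eq_mul] at h1 ⊢
      linear_combination h1
  have hδp : ∀ a : K, δ (a • p) = 0 := fun a => by
    simp only [hδ]
    rw [show a • p = a • p + (0 : K) • e by rw [zero_smul, add_zero], hD₁.fix, sub_self]
  have hQp : Q p = 0 := D.Q_sing hp
  have hpp : B p ((2 * t) • p) = 0 := D.B_of_h (by simp [hp])
  suffices D₂ = sGL Q B p ((2 * t) • p) by rw [← this]; exact hD₂.mem
  refine gl_ext fun x => ?_
  set ξ := h x p
  have hrt : rt h p f x = x + (ξ • f - h x f • p) := by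
    rw [rt, hff]
    simp [ξ]
    abel
  have h1 : D₂.val *ᵥ x - x = δ (rt h p f x) + h (δ (rt h p f x)) f • p - δ x := hD₂a x
  have h2 : δ (rt h p f x) = δ x + σ ξ • p := by
    have hlin : δ (x + (ξ • f - h x f • p)) = δ x + (δ (ξ • f) - δ (h x f • p)) := by
      simp only [hδ, Matrix.mulVec_add, Matrix.mulVec_sub]
      abel
    rw [hrt, hlin, hδf, hδp, sub_zero]
  have h3 : h (rt h p f x) p = ξ := by rw [rt]; simp [hp, D.symm f p, hpf, ξ]
  rw [sGL_act D.space hQp hpp, D.Q_smul hp, zero_mul, add_zero, D.smul_left, D.space.symm p x]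
  rw [show D₂.val *ᵥ x = x + (D₂.val *ᵥ x - x) by abel, h1, hδh, h3, h2, hσk]
  have e1 : B x p = T ξ := D.tr x p
  have e2 : Algebra.trace F K (2 * t * h p x) = 2 * T (ξ * t) := by
    rw [D.symm p x, mul_assoc, two_mul, map_add, ← two_mul, mul_comm t ξ]
  rw [e1, e2, Algebra.algebraMap_eq_smul_one]
  simp only [sub_smul, smul_assoc, one_smul, two_mul, add_smul]
  module

variable (Q B h G) in
/-- A Siegel element of the ground field centred at a singular vector of `h`. -/
def Seed (p : 𝕍) : Prop :=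
  (∃ e, B e e = 0 ∧ h p e = 0 ∧ e ∉ K ∙ p ∧ sGL Q B p e ∈ G) ∨
    (∃ γ : K, γ ∉ (⊥ : Subalgebra F K) ∧ 3 ≤ finrank F K ∧ sGL Q B p (γ • p) ∈ G)

theorem exists_seed (D : Ext Q B h) (hG : Over Q h G) (hr : (finrank F K).Prime)
    (hd : 5 ≤ finrank K 𝕍 ∨ 3 ≤ finrank F K) :
    ∃ p, p ≠ 0 ∧ h p p = 0 ∧ Seed Q B h G p := by
  obtain ⟨A, p, e, t, hA⟩ := exists_flat D hG hr
  rcases D.perp_cases (e := e) hA.sing with ⟨w, hw, w', hw', hne⟩ | ⟨h4, hee, hspan⟩
  · have hm : h w' w * t ≠ 0 := mul_ne_zero hne hA.ne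
    refine ⟨_, smul_ne_zero hm hA.ne0, by simp [hA.sing],
      Or.inl ⟨-e, by simp [hA.iso], by simp [hA.perp], fun hm' => hA.indep ?_, hA.siegel D hG hw hw'⟩⟩
    obtain ⟨a, ha⟩ := Submodule.mem_span_singleton.1 hm'
    exact Submodule.mem_span_singleton.2 ⟨-(a * (h w' w * t)), by rw [neg_smul, mul_smul, ha, neg_neg]⟩
  have h3 : 3 ≤ finrank F K := hd.resolve_left (by omega)
  obtain ⟨κ, hκ0, hκt⟩ : ∃ κ : K, κ ≠ 0 ∧ 2 * (κ * t) ∉ (⊥ : Subalgebra F K) := by
    by_contra hc
    push Not at hc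
    have h1 : (⊤ : Subalgebra F K) ≤ ⊥ := fun x _ => by
      rcases eq_or_ne x 0 with rfl | hx
      · exact Subalgebra.zero_mem _
      · have := hc (x / (2 * t)) (div_ne_zero hx (mul_ne_zero D.two' hA.ne))
        rwa [show 2 * (x / (2 * t) * t) = x by field_simp [D.two', hA.ne]] at this
    have := Subalgebra.bot_eq_top_iff_finrank_eq_one.1 (le_antisymm bot_le h1)
    omega
  refine ⟨_, smul_ne_zero hκ0 hA.ne0, by simp [hA.sing], Or.inr ⟨_, hκt, h3,
    (hA.scale hκ0).degenerate D hG hee fun x hx => ?_⟩⟩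
  obtain ⟨hx1, hx2⟩ := mem_perp.1 hx
  rw [LinearMap.map_smul₂, smul_eq_mul] at hx1
  obtain ⟨a, b, hab⟩ := hspan x (mem_perp.2 ⟨(mul_eq_zero.1 hx1).resolve_left hκ0, hx2⟩)
  exact ⟨a / κ, b, by rw [hab, smul_smul, div_mul_cancel₀ _ hκ0]⟩

end Finite

end Cfsg.Lib.Linear.OrthExt
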